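import Mathlib
import Cfsg.Agent.H19.Th.N.B
import Cfsg.Agent.H19.Th.N.I0

set_option autoImplicit false
set_option maxRecDepth 100000
set_option Elab.async false
set_option linter.all false

namespace H19.Th.N
open H29

theorem hiv : IvOK (sg nets) (ivOf Th.ivl) :=
  ivOK_of_chk (k := 15) hn (by decide) (n := 14) (by decide) (by decide) (lt_step (lt_step (lt_step (lt_step (lt_step (lt_step (lt_step (lt_step (lt_step (lt_step (lt_step (lt_step (lt_step (lt_step (lt_step lt_base iv0) iv1) iv2) iv3) iv4) iv5) iv6) iv7) iv8) iv9) iv10) iv11) iv12) iv13) iv14)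
theorem hG0 : ∀ r ∈ G0, ev (sg nets) r = 1 :=
  rels_of_chk (k := 15) hn (by decide) hiv (lt_step (lt_step (lt_step (lt_step (lt_step (lt_step (lt_step (lt_step (lt_step (lt_step (lt_step (lt_step (lt_step (lt_step (lt_step lt_base r0_0) r0_1) r0_2) r0_3) r0_4) r0_5) r0_6) r0_7) r0_8) r0_9) r0_10) r0_11) r0_12) r0_13) r0_14)
theorem hR : ∀ r ∈ RN, ev (sg nets) r = 1 := rels_sub (R := G0) hG0 (by decide +kernel)

theorem exists_ρ : ∃ ρ : K.K →* Equiv.Perm ℕ, ∀ c ∈ cols, ρ (K.σ c) = sg nets c := by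
  obtain ⟨ρ, h1, h2⟩ := K.exists_hom hiv (rels_sub hR (by decide +kernel))
  refine ⟨ρ, fun c hc => ?_⟩
  rcases (by decide +kernel : ∀ c ∈ cols, c < 9 ∨ (c :: invW (ivOf Th.ivl) (nth [] K.wk c)) ∈ RN) c hc with h | h
  · exact h1 c h
  · have := hR _ h
    rw [ev_cons, ev_invW hiv, mul_inv_eq_one] at this
    rw [h2, this]
/-- The action on 17199 points. -/
noncomputable def ρ : K.K →* Equiv.Perm ℕ := exists_ρ.choose
theorem hρ : ∀ c ∈ cols, ρ (K.σ c) = sg nets c := exists_ρ.choose_spec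
def dl : List ℕ := [0, 2, 4, 7, 8, 11, 12, 13]
def wd : List (List ℕ) := [[0], [2], [4], [7], [8], [11], [12], [13], [0, 2, 13, 11, 13, 0], [0, 12, 11, 12, 0]]
theorem ch : chkChain 17199 15 (wNets nets wd) [(8164, 3, 6144, [8, 9]), (1, 2, 6, [])] [0, 1, 2, 3, 4, 5, 6, 7, 8, 9] = true := by
  decide +kernel
theorem cardD : 36864 ≤ Nat.card (gen K.σ dl) :=
  (le_card_genW hn hρ (by decide +kernel) ch).trans (Subgroup.card_le_of_le (genW_le_gen (by decide +kernel)))
theorem top : gen K.σ cols = ⊤ := top_unique (K.top9 ▸ gen_sub (by decide +kernel))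
theorem reach : Reach nets cols (bit 0) (ones 17199) := reach_of_chk (r := 3) hn (by decide +kernel)
theorem fix0 : ∀ c ∈ dl, sg nets c 0 = 0 := fix_zero_of_chk hn (by decide +kernel)
theorem cm : CosetModel ρ (gen K.σ dl) 17199 :=
  cosetModel_of_card hn hρ top (by norm_num) (by decide +kernel) reach
    (gen_le.2 fun c hc => by
      rw [mem_stab, hρ c ((by decide +kernel : ∀ c ∈ dl, c ∈ cols) c hc)]
      exact fix0 c hc)
    (by rw [K.card]; exact le_trans (by norm_num) (Nat.mul_le_mul_left _ cardD))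

end H19.Th.N
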