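import Mathlib
import Cfsg.Agent.H19.Th.E.B
import Cfsg.Agent.H19.Th.E.C0
import Cfsg.Agent.H19.Th.E.C1
import Cfsg.Agent.H19.Th.E.C2
import Cfsg.Agent.H19.Th.E.C3
import Cfsg.Agent.H19.Th.E.C4

set_option autoImplicit false
set_option maxRecDepth 100000
set_option Elab.async false
set_option linter.all false

namespace H19.Th.E
open H29

theorem eS1 : ∃ l b, En fS1 tI l 0 b 751 ∧ l.length = 36864 :=
  ⟨((((((((((((((((((((((((((((((lS1_0 ++ lS1_1) ++ lS1_2) ++ lS1_3) ++ lS1_4) ++ lS1_5) ++ lS1_6) ++ lS1_7) ++ lS1_8) ++ lS1_9) ++ lS1_10) ++ lS1_11) ++ lS1_12) ++ lS1_13) ++ lS1_14) ++ lS1_15) ++ lS1_16) ++ lS1_17) ++ lS1_18) ++ lS1_19) ++ lS1_20) ++ lS1_21) ++ lS1_22) ++ lS1_23) ++ lS1_24) ++ lS1_25) ++ lS1_26) ++ lS1_27) ++ lS1_28) ++ lS1_29) ++ lS1_30), _, ((((((((((((((((((((((((((((((eS1_0.append eS1_1).append eS1_2).append eS1_3).append eS1_4).append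 eS1_5).append eS1_6).append eS1_7).append eS1_8).append eS1_9).append eS1_10).append eS1_11).append eS1_12).append eS1_13).append eS1_14).append eS1_15).append eS1_16).append eS1_17).append eS1_18).append eS1_19).append eS1_20).append eS1_21).append eS1_22).append eS1_23).append eS1_24).append eS1_25).append eS1_26).append eS1_27).append eS1_28).append eS1_29).append eS1_30), by simp only [List.length_append, nS1_0, nS1_1, nS1_2, nS1_3, nS1_4, nS1_5, nS1_6, nS1_7, nS1_8, nS1_9, nS1_10, nS1_11, nS1_12, nS1_13, nS1_14, nS1_15, nS1_16, nS1_17, nS1_18, nS1_19, nS1_20, nS1_21, nS1_22, nS1_23, nS1_24, nS1_25, nS1_26, nS1_27, nS1_28, nS1_29, nS1_30]⟩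
theorem le1 : 36864 ≤ Nat.card (genW K.σ DC.gw1) := by
  obtain ⟨l, b, h, e⟩ := eS1
  exact e ▸ le_card_of_en K.C hyS1 (fun _ => wE_mem (wE_mem_genW _ _) _ _) h
theorem inv1 (hc : Nat.card (genW K.σ DC.gw1) ≤ 36864) {Q : K.K → Prop}
    (hQ : ∀ g x, Q g → K.C.Rep g x → tInv K.C.mul K.C.one x = true) :
    {g | g ∈ genW K.σ DC.gw1 ∧ Q g}.ncard ≤ 751 := by
  obtain ⟨l, b, h, e⟩ := eS1
  exact ncard_le_of_en K.C hyS1 (fun _ => wE_mem (wE_mem_genW _ _) _ _) h (e ▸ hc) hQ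
theorem eS2 : ∃ l b, En fS2 tI l 0 b 271 ∧ l.length = 13824 :=
  ⟨(((((((((((lS2_0 ++ lS2_1) ++ lS2_2) ++ lS2_3) ++ lS2_4) ++ lS2_5) ++ lS2_6) ++ lS2_7) ++ lS2_8) ++ lS2_9) ++ lS2_10) ++ lS2_11), _, (((((((((((eS2_0.append eS2_1).append eS2_2).append eS2_3).append eS2_4).append eS2_5).append eS2_6).append eS2_7).append eS2_8).append eS2_9).append eS2_10).append eS2_11), by simp only [List.length_append, nS2_0, nS2_1, nS2_2, nS2_3, nS2_4, nS2_5, nS2_6, nS2_7, nS2_8, nS2_9, nS2_10, nS2_11]⟩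
theorem le2 : 13824 ≤ Nat.card (genW K.σ DC.gw2) := by
  obtain ⟨l, b, h, e⟩ := eS2
  exact e ▸ le_card_of_en K.C hyS2 (fun _ => wE_mem (wE_mem_genW _ _) _ _) h
theorem inv2 (hc : Nat.card (genW K.σ DC.gw2) ≤ 13824) {Q : K.K → Prop}
    (hQ : ∀ g x, Q g → K.C.Rep g x → tInv K.C.mul K.C.one x = true) :
    {g | g ∈ genW K.σ DC.gw2 ∧ Q g}.ncard ≤ 271 := by
  obtain ⟨l, b, h, e⟩ := eS2
  exact ncard_le_of_en K.C hyS2 (fun _ => wE_mem (wE_mem_genW _ _) _ _) h (e ▸ hc) hQ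
theorem eS3 : ∃ l b, En fS3 tI l 0 b 31 ∧ l.length = 288 :=
  ⟨lS3_0, _, eS3_0, by simp only [nS3_0]⟩
theorem le3 : 288 ≤ Nat.card (genW K.σ DC.gw3) := by
  obtain ⟨l, b, h, e⟩ := eS3
  exact e ▸ le_card_of_en K.C hyS3 (fun _ => wE_mem (wE_mem_genW _ _) _ _) h
theorem inv3 (hc : Nat.card (genW K.σ DC.gw3) ≤ 288) {Q : K.K → Prop}
    (hQ : ∀ g x, Q g → K.C.Rep g x → tInv K.C.mul K.C.one x = true) :
    {g | g ∈ genW K.σ DC.gw3 ∧ Q g}.ncard ≤ 31 := by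
  obtain ⟨l, b, h, e⟩ := eS3
  exact ncard_le_of_en K.C hyS3 (fun _ => wE_mem (wE_mem_genW _ _) _ _) h (e ▸ hc) hQ
theorem eS4 : ∃ l b, En fS4 tI l 0 b 27 ∧ l.length = 486 :=
  ⟨lS4_0, _, eS4_0, by simp only [nS4_0]⟩
theorem le4 : 486 ≤ Nat.card (genW K.σ DC.gw4) := by
  obtain ⟨l, b, h, e⟩ := eS4
  exact e ▸ le_card_of_en K.C hyS4 (fun _ => wE_mem (wE_mem_genW _ _) _ _) h
theorem inv4 (hc : Nat.card (genW K.σ DC.gw4) ≤ 486) {Q : K.K → Prop}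
    (hQ : ∀ g x, Q g → K.C.Rep g x → tInv K.C.mul K.C.one x = true) :
    {g | g ∈ genW K.σ DC.gw4 ∧ Q g}.ncard ≤ 27 := by
  obtain ⟨l, b, h, e⟩ := eS4
  exact ncard_le_of_en K.C hyS4 (fun _ => wE_mem (wE_mem_genW _ _) _ _) h (e ▸ hc) hQ
theorem eS5 : ∃ l b, En fS5 tI l 0 b 9 ∧ l.length = 54 :=
  ⟨lS5_0, _, eS5_0, by simp only [nS5_0]⟩
theorem le5 : 54 ≤ Nat.card (genW K.σ DC.gw5) := by
  obtain ⟨l, b, h, e⟩ := eS5
  exact e ▸ le_card_of_en K.C hyS5 (fun _ => wE_mem (wE_mem_genW _ _) _ _) h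
theorem inv5 (hc : Nat.card (genW K.σ DC.gw5) ≤ 54) {Q : K.K → Prop}
    (hQ : ∀ g x, Q g → K.C.Rep g x → tInv K.C.mul K.C.one x = true) :
    {g | g ∈ genW K.σ DC.gw5 ∧ Q g}.ncard ≤ 9 := by
  obtain ⟨l, b, h, e⟩ := eS5
  exact ncard_le_of_en K.C hyS5 (fun _ => wE_mem (wE_mem_genW _ _) _ _) h (e ▸ hc) hQ
theorem eS6 : ∃ l b, En fS6 tI l 0 b 3 ∧ l.length = 6 :=
  ⟨lS6_0, _, eS6_0, by simp only [nS6_0]⟩
theorem le6 : 6 ≤ Nat.card (genW K.σ DC.gw6) := by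
  obtain ⟨l, b, h, e⟩ := eS6
  exact e ▸ le_card_of_en K.C hyS6 (fun _ => wE_mem (wE_mem_genW _ _) _ _) h
theorem inv6 (hc : Nat.card (genW K.σ DC.gw6) ≤ 6) {Q : K.K → Prop}
    (hQ : ∀ g x, Q g → K.C.Rep g x → tInv K.C.mul K.C.one x = true) :
    {g | g ∈ genW K.σ DC.gw6 ∧ Q g}.ncard ≤ 3 := by
  obtain ⟨l, b, h, e⟩ := eS6
  exact ncard_le_of_en K.C hyS6 (fun _ => wE_mem (wE_mem_genW _ _) _ _) h (e ▸ hc) hQ
theorem eS7 : ∃ l b, En fS7 tI l 0 b 7 ∧ l.length = 126 :=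
  ⟨lS7_0, _, eS7_0, by simp only [nS7_0]⟩
theorem le7 : 126 ≤ Nat.card (genW K.σ DC.gw7) := by
  obtain ⟨l, b, h, e⟩ := eS7
  exact e ▸ le_card_of_en K.C hyS7 (fun _ => wE_mem (wE_mem_genW _ _) _ _) h
theorem inv7 (hc : Nat.card (genW K.σ DC.gw7) ≤ 126) {Q : K.K → Prop}
    (hQ : ∀ g x, Q g → K.C.Rep g x → tInv K.C.mul K.C.one x = true) :
    {g | g ∈ genW K.σ DC.gw7 ∧ Q g}.ncard ≤ 7 := by
  obtain ⟨l, b, h, e⟩ := eS7
  exact ncard_le_of_en K.C hyS7 (fun _ => wE_mem (wE_mem_genW _ _) _ _) h (e ▸ hc) hQ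
theorem eS8 : ∃ l b, En fS8 tI l 0 b 13 ∧ l.length = 78 :=
  ⟨lS8_0, _, eS8_0, by simp only [nS8_0]⟩
theorem le8 : 78 ≤ Nat.card (genW K.σ DC.gw8) := by
  obtain ⟨l, b, h, e⟩ := eS8
  exact e ▸ le_card_of_en K.C hyS8 (fun _ => wE_mem (wE_mem_genW _ _) _ _) h
theorem inv8 (hc : Nat.card (genW K.σ DC.gw8) ≤ 78) {Q : K.K → Prop}
    (hQ : ∀ g x, Q g → K.C.Rep g x → tInv K.C.mul K.C.one x = true) :
    {g | g ∈ genW K.σ DC.gw8 ∧ Q g}.ncard ≤ 13 := by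
  obtain ⟨l, b, h, e⟩ := eS8
  exact ncard_le_of_en K.C hyS8 (fun _ => wE_mem (wE_mem_genW _ _) _ _) h (e ▸ hc) hQ
theorem eS9 : ∃ l b, En fS9 tI l 0 b 49 ∧ l.length = 3528 :=
  ⟨((lS9_0 ++ lS9_1) ++ lS9_2), _, ((eS9_0.append eS9_1).append eS9_2), by simp only [List.length_append, nS9_0, nS9_1, nS9_2]⟩
theorem le9 : 3528 ≤ Nat.card (genW K.σ DC.gw9) := by
  obtain ⟨l, b, h, e⟩ := eS9
  exact e ▸ le_card_of_en K.C hyS9 (fun _ => wE_mem (wE_mem_genW _ _) _ _) h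
theorem inv9 (hc : Nat.card (genW K.σ DC.gw9) ≤ 3528) {Q : K.K → Prop}
    (hQ : ∀ g x, Q g → K.C.Rep g x → tInv K.C.mul K.C.one x = true) :
    {g | g ∈ genW K.σ DC.gw9 ∧ Q g}.ncard ≤ 49 := by
  obtain ⟨l, b, h, e⟩ := eS9
  exact ncard_le_of_en K.C hyS9 (fun _ => wE_mem (wE_mem_genW _ _) _ _) h (e ▸ hc) hQ
theorem eS10 : ∃ l b, En fS10 tI l 0 b 1 ∧ l.length = 72 :=
  ⟨lS10_0, _, eS10_0, by simp only [nS10_0]⟩
theorem le10 : 72 ≤ Nat.card (genW K.σ DC.gw10) := by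
  obtain ⟨l, b, h, e⟩ := eS10
  exact e ▸ le_card_of_en K.C hyS10 (fun _ => wE_mem (wE_mem_genW _ _) _ _) h
theorem inv10 (hc : Nat.card (genW K.σ DC.gw10) ≤ 72) {Q : K.K → Prop}
    (hQ : ∀ g x, Q g → K.C.Rep g x → tInv K.C.mul K.C.one x = true) :
    {g | g ∈ genW K.σ DC.gw10 ∧ Q g}.ncard ≤ 1 := by
  obtain ⟨l, b, h, e⟩ := eS10
  exact ncard_le_of_en K.C hyS10 (fun _ => wE_mem (wE_mem_genW _ _) _ _) h (e ▸ hc) hQ
theorem eQ : ∃ l b, En fQ tZ l 0 b 2 ∧ l.length = 512 :=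
  ⟨(lQ_0 ++ lQ_1), _, (eQ_0.append eQ_1), by simp only [List.length_append, nQ_0, nQ_1]⟩
theorem eA : ∃ l b, En fA (fun _ => false) l 0 b 0 ∧ l.length = 51 :=
  ⟨lA_0, _, eA_0, by simp only [nA_0]⟩
theorem clsA : 51 ≤ {s | s ∈ gen K.σ [0, 2, 4, 7, 8, 11, 12, 13] ∧ IsConj (ev K.σ [0]) s}.ncard := by
  obtain ⟨l, b, h, e⟩ := eA
  exact e ▸ le_ncard_conj4 K.C K.hl K.hiv (List.forall_mem_cons.2 ⟨⟨by decide, isConj_of_code K.C K.hl K.hiv [] (by decide +kernel)⟩,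
    (List.forall_mem_cons.2 ⟨⟨by decide, isConj_of_code K.C K.hl K.hiv [13, 3] (by decide +kernel)⟩,
    (List.forall_mem_cons.2 ⟨⟨by decide, isConj_of_code K.C K.hl K.hiv [1, 11, 12, 11, 13, 3, 1] (by decide +kernel)⟩,
    (fun _ h => absurd h List.not_mem_nil)⟩)⟩)⟩) h
theorem fixA : {i | i < 17199 ∧ ev (sg N.nets) [0] i = i}.ncard ≤ 1071 :=
  ncard_fix_le (k := 15) N.hn (by norm_num) (by decide +kernel)
theorem eB : ∃ l b, En fB (fun _ => false) l 0 b 0 ∧ l.length = 700 :=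
  ⟨(((lB_0 ++ lB_1) ++ lB_2) ++ lB_3), _, (((eB_0.append eB_1).append eB_2).append eB_3), by simp only [List.length_append, nB_0, nB_1, nB_2, nB_3]⟩
theorem clsB : 700 ≤ {s | s ∈ gen K.σ [0, 2, 4, 7, 8, 11, 12, 13] ∧ IsConj (ev K.σ [4, 13]) s}.ncard := by
  obtain ⟨l, b, h, e⟩ := eB
  exact e ▸ le_ncard_conj4 K.C K.hl K.hiv (List.forall_mem_cons.2 ⟨⟨by decide, isConj_of_code K.C K.hl K.hiv [] (by decide +kernel)⟩,
    (List.forall_mem_cons.2 ⟨⟨by decide, isConj_of_code K.C K.hl K.hiv [0, 11, 4, 13, 3, 13, 4, 11] (by decide +kernel)⟩,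
    (List.forall_mem_cons.2 ⟨⟨by decide, isConj_of_code K.C K.hl K.hiv [0, 6, 6, 11, 4, 13, 3, 13, 4, 11] (by decide +kernel)⟩,
    (List.forall_mem_cons.2 ⟨⟨by decide, isConj_of_code K.C K.hl K.hiv [0, 5, 11, 13, 3, 12, 3, 13, 11, 8] (by decide +kernel)⟩,
    (List.forall_mem_cons.2 ⟨⟨by decide, isConj_of_code K.C K.hl K.hiv [6, 6] (by decide +kernel)⟩,
    (List.forall_mem_cons.2 ⟨⟨by decide, isConj_of_code K.C K.hl K.hiv [5, 8] (by decide +kernel)⟩,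
    (List.forall_mem_cons.2 ⟨⟨by decide, isConj_of_code K.C K.hl K.hiv [0, 5, 8, 11, 13, 3] (by decide +kernel)⟩,
    (List.forall_mem_cons.2 ⟨⟨by decide, isConj_of_code K.C K.hl K.hiv [11, 13, 3] (by decide +kernel)⟩,
    (List.forall_mem_cons.2 ⟨⟨by decide, isConj_of_code K.C K.hl K.hiv [0, 6, 6, 11, 13, 3] (by decide +kernel)⟩,
    (List.forall_mem_cons.2 ⟨⟨by decide, isConj_of_code K.C K.hl K.hiv [1, 5, 5] (by decide +kernel)⟩,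
    (List.forall_mem_cons.2 ⟨⟨by decide, isConj_of_code K.C K.hl K.hiv [1, 6] (by decide +kernel)⟩,
    (List.forall_mem_cons.2 ⟨⟨by decide, isConj_of_code K.C K.hl K.hiv [0, 5, 11, 13, 12, 8, 12] (by decide +kernel)⟩,
    (List.forall_mem_cons.2 ⟨⟨by decide, isConj_of_code K.C K.hl K.hiv [0, 11, 12, 13, 6, 7] (by decide +kernel)⟩,
    (List.forall_mem_cons.2 ⟨⟨by decide, isConj_of_code K.C K.hl K.hiv [1, 11, 13, 12, 8] (by decide +kernel)⟩,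
    (List.forall_mem_cons.2 ⟨⟨by decide, isConj_of_code K.C K.hl K.hiv [1, 5, 11, 13, 4, 5] (by decide +kernel)⟩,
    (List.forall_mem_cons.2 ⟨⟨by decide, isConj_of_code K.C K.hl K.hiv [1, 5, 11, 12, 8, 12, 11, 4] (by decide +kernel)⟩,
    (fun _ h => absurd h List.not_mem_nil)⟩)⟩)⟩)⟩)⟩)⟩)⟩)⟩)⟩)⟩)⟩)⟩)⟩)⟩)⟩)⟩) h
theorem fixB : {i | i < 17199 ∧ ev (sg N.nets) [4, 13] i = i}.ncard ≤ 175 :=
  ncard_fix_le (k := 15) N.hn (by norm_num) (by decide +kernel)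
theorem cj13 : IsConj (ev K.σ [0]) (ev K.σ [13]) :=
  isConj_of_code K.C K.hl K.hiv [13, 11, 1] (by decide +kernel)
theorem chA : chkChain 17199 15 N.nets [(1, 6, 16128, [])] [0, 2, 3, 4, 5, 6, 7, 8] = true := by decide +kernel

end H19.Th.E
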