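import Mathlib
import Cfsg.Agent.H19.Th.E
import Cfsg.Agent.H19.ThT4
import Cfsg.Agent.H19.ThT5
import Cfsg.Agent.H19.ThT6
import Cfsg.Agent.H24.AltMult
import Cfsg.Agent.H3.Extraspecial

/-!
# The subgroup `2^(1+8).A₉` of the presented Thompson group
-/

set_option autoImplicit false
set_option maxRecDepth 100000

namespace H19.Th
open H29 Subgroup

/-- A permutation. -/
def p3 : Equiv.Perm (Fin 9) := ⟨![0, 6, 5, 4, 3, 2, 1, 8, 7], ![0, 6, 5, 4, 3, 2, 1, 8, 7], by decide, by decide⟩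
/-- A permutation. -/
def p4 : Equiv.Perm (Fin 9) := ⟨![7, 5, 3, 2, 6, 1, 4, 0, 8], ![7, 5, 3, 2, 6, 1, 4, 0, 8], by decide, by decide⟩
/-- A permutation. -/
def p5 : Equiv.Perm (Fin 9) := ⟨![1, 2, 3, 4, 5, 6, 0, 7, 8], ![6, 0, 1, 2, 3, 4, 5, 7, 8], by decide, by decide⟩
/-- A permutation. -/
def p7 : Equiv.Perm (Fin 9) := ⟨![0, 4, 1, 5, 2, 6, 3, 7, 8], ![0, 2, 4, 6, 1, 3, 5, 7, 8], by decide, by decide⟩
/-- A permutation. -/
def p9 : Equiv.Perm (Fin 9) := ⟨![0, 4, 2, 3, 1, 6, 5, 7, 8], ![0, 4, 2, 3, 1, 6, 5, 7, 8], by decide, by decide⟩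
/-- The images of the letters in the symmetric group. -/
noncomputable def α0 : ℕ → Equiv.Perm (Fin 9) := nth 1 [1, 1, 1, p3, p4, p5, p5⁻¹, p7, p7⁻¹, p9, p9]
/-- The tables of the permutations. -/
noncomputable def tb : ℕ → List ℕ := nth [0, 1, 2, 3, 4, 5, 6, 7, 8] [[0, 1, 2, 3, 4, 5, 6, 7, 8], [0, 1, 2, 3, 4, 5, 6, 7, 8], [0, 1, 2, 3, 4, 5, 6, 7, 8], [0, 6, 5, 4, 3, 2, 1, 8, 7], [7, 5, 3, 2, 6, 1, 4, 0, 8], [1, 2, 3, 4, 5, 6, 0, 7, 8], [6, 0, 1, 2, 3, 4, 5, 7, 8], [0, 4, 1, 5, 2, 6, 3, 7, 8], [0, 2, 4, 6, 1, 3, 5, 7, 8], [0, 4, 2, 3, 1, 6, 5, 7, 8], [0, 4, 2, 3, 1, 6, 5, 7, 8]]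
/-- The image of a point under a word. -/
noncomputable def apW (w : List ℕ) (i : ℕ) : ℕ :=
  List.rec (motive := fun _ => ℕ) i (fun c _ ih => seqN ih (nth 0 (tb c))) w
theorem α0_val (c : ℕ) : ∀ i : Fin 9, (α0 c i : ℕ) = nth 0 (tb c) i := by
  by_cases h : c < 11
  · exact (by decide +kernel : ∀ c < 11, ∀ i : Fin 9, (α0 c i : ℕ) = nth 0 (tb c) i) c h
  · rw [α0, tb, nth_default _ (by change 11 ≤ c; omega), nth_default _ (by change 11 ≤ c; omega)]
    decide +kernel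
theorem ev_α0 (i : Fin 9) : ∀ w, (ev α0 w i : ℕ) = apW w i
  | [] => rfl
  | c :: w => by
    rw [ev_cons, Equiv.Perm.mul_apply, α0_val, ev_α0 i w,
      show apW (c :: w) i = seqN (apW w i) (nth 0 (tb c)) from rfl, seqN_eq]
theorem α0_eq {w : List ℕ} {p : Equiv.Perm (Fin 9)} (h : ∀ i : Fin 9, apW w i = p i) :
    ev α0 w = p := Equiv.ext fun i => Fin.ext ((ev_α0 i w).trans (h i))
theorem α0_rel : ∀ r ∈ ThT5.R0 ++ ThT4.R0 ++ E.cw, ev α0 r = 1 := fun r hr => α0_eq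
  ((by decide +kernel : ∀ r ∈ ThT5.R0 ++ ThT4.R0 ++ E.cw, ∀ i : Fin 9, apW r i = i) r hr)
theorem α0_mem (c : ℕ) : α0 c ∈ alternatingGroup (Fin 9) := by
  have h1 : ∀ (c n : ℕ), ev α0 (List.replicate (2 * n + 1) c) = 1 → α0 c ∈ alternatingGroup (Fin 9) :=
    fun c n h => by
      have := congrArg Equiv.Perm.sign h
      rwa [ev_replicate, map_pow, pow_succ, pow_mul, Int.units_sq, one_pow, one_mul, map_one] at this
  have h5 := h1 5 3 (α0_eq (by decide +kernel))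
  have h7 := h1 7 1 (α0_eq (by decide +kernel))
  have h2 : ∀ (c : ℕ) (u v : List ℕ), (∀ i : Fin 9, apW (u ++ u ++ v) i = α0 c i) →
      (∀ x ∈ v, x = 5 ∨ x = 7) → α0 c ∈ alternatingGroup (Fin 9) := fun c u v h h' => by
    rw [← α0_eq h, ev_append, ev_append]
    refine mul_mem ?_ (ev_mem fun x hx => (h' x hx).elim (· ▸ h5) (· ▸ h7))
    rw [Equiv.Perm.mem_alternatingGroup, map_mul, Int.units_mul_self]
  refine nth_forall (p := fun x => x ∈ alternatingGroup (Fin 9)) (one_mem _) ?_ c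
  simp only [List.forall_mem_cons]
  have h9 := h2 9 [5, 9] [5] (by decide +kernel) (by decide)
  exact ⟨one_mem _, one_mem _, one_mem _, h2 3 [4, 3, 5, 4, 5, 9, 3, 5, 4, 7] [] (by decide +kernel) (by decide),
    h2 4 [5, 4, 7] [5, 7] (by decide +kernel) (by decide), h5, inv_mem h5, h7, inv_mem h7, h9, h9, by simp⟩
/-- The images of the letters in the alternating group. -/
noncomputable def α : ℕ → alternatingGroup (Fin 9) := subL α0_mem
theorem α_iv : IvOK α (ivOf ivl) := ivOK_subL _ fun c => by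
  by_cases h : c < 11
  · refine eq_inv_of_mul_eq_one_left ?_
    simpa using α0_eq (p := 1) ((by decide +kernel : ∀ c < 11, ∀ i : Fin 9,
      apW [ivOf ivl c, c] i = i) c h)
  · rw [ivOf, nth_default _ (by change 11 ≤ c; omega), α0, nth_default _ (by change 11 ≤ c; omega),
      inv_one]
theorem α_rel : ∀ r ∈ ThT5.R0 ++ ThT4.R0 ++ E.cw, ev α r = 1 := rels_subL _ α0_rel
theorem α_top : gen α ThT5.cols = ⊤ := by
  refine gen_subL _ fun σ hσ => ?_
  refine (closure_le _).2 ?_ (H24.AltMult.closure_c (a := 0) (b := 1) (by decide) σ hσ)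
  rintro _ ⟨i, hi, rfl⟩
  have : ∀ i : Fin 9, i ≠ 0 ∧ i ≠ 1 → ∃ w ∈ [[3, 9, 3, 5, 5, 9, 6, 6], [6, 8, 9, 3, 9, 3, 5], [5, 8, 9, 3, 5, 8, 9, 3], [5, 5, 9, 3, 9, 3, 6, 7], [3, 5, 9, 3, 5, 5, 9, 6], [3, 8, 6, 9, 3, 5, 9, 6, 4, 8], [3, 4, 9, 5, 4, 5, 9, 3, 9, 5]],
      (∀ c ∈ w, c ∈ ThT5.cols) ∧ ∀ j : Fin 9, apW w j = H24.AltMult.c 0 1 i j := by decide +kernel
  obtain ⟨w, -, h1, h2⟩ := this i (by simpa using hi)
  exact α0_eq h2 ▸ ev_mem_gen h1
theorem card_A9 : Nat.card (alternatingGroup (Fin 9)) = 181440 := by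
  have := two_mul_nat_card_alternatingGroup (α := Fin 9)
  rw [Nat.card_perm, Nat.card_fin, show Nat.factorial 9 = 362880 from rfl] at this
  omega

/-- The extraspecial group. -/
noncomputable abbrev QK : Subgroup K.K := genW K.σ E.cw
theorem le_QK : 512 ≤ Nat.card QK := by
  obtain ⟨l, b, h, e⟩ := E.eQ
  exact e ▸ le_card_of_en K.C E.hyQ (fun _ => wE_mem (wE_mem_genW _ _) _ _) h
theorem relT4 : ∀ r ∈ ThT4.R0, ev K.σ r = 1 := K.C.rels K.hl K.hiv (by decide +kernel)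
theorem s7 : ev K.σ [5] ^ 7 = 1 ∧ ev K.σ [5] ≠ 1 :=
  K.C.pow_eq_one K.hl (by norm_num) (by decide +kernel)

theorem cstruct {J : Type} [Group J] {e : ℕ → J} (hiv : IvOK e (ivOf ivl))
    (hR : ∀ r ∈ R, ev e r = 1) {ψ : K.K →* J} (hψ : ∀ c < 9, ψ (K.σ c) = e c)
    (hi : Function.Injective ψ) :
    ∃ π : gen e ThT5.cols →* alternatingGroup (Fin 9), Function.Surjective π ∧
      π.ker = (QK.map ψ).subgroupOf (gen e ThT5.cols) ∧ QK.map ψ ≤ gen e ThT5.cols ∧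
      Nat.card QK = 512 ∧ Nat.card (gen e ThT5.cols) = 92897280 := by
  let f : ℕ → J × alternatingGroup (Fin 9) := fun c => (e c, α c)
  have evf : ∀ w, ev f w = (ev e w, ev α w) := fun w =>
    Prod.ext (map_ev (MonoidHom.fst _ _) f w) (map_ev (MonoidHom.snd _ _) f w)
  have hψw : ∀ w : List ℕ, (∀ c ∈ w, c < 9) → ψ (ev K.σ w) = ev e w := fun w hw => by
    rw [map_ev, ev_congr fun c hc => hψ c (hw c hc)]
  have fi : IvOK f (ivOf ivl) := fun c => Prod.ext (hiv c) (α_iv c)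
  have r5 : ∀ r ∈ ThT5.R0, ev f r = 1 := fun r hr => by
    rw [evf, rels_sub hR (by decide +kernel) r hr, α_rel r (by simp [hr])]; rfl
  have r4 : ∀ r ∈ ThT4.R0, ev f r = 1 := fun r hr => by
    rw [evf, ← hψw r ((by decide +kernel : ∀ r ∈ ThT4.R0, ∀ c ∈ r, c < 9) r hr), relT4 r hr, map_one,
      α_rel r (by simp [hr])]; rfl
  obtain ⟨fin, bd⟩ : Bd (gen f ThT5.cols) (120 * (512 * (1512 * 1))) :=
    ThT5.bd fi r5 (ThT4.bd fi r4 (ThT6.bd fi (rels_sub r4 (by decide +kernel)) (bd_nil _)))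
  let p2 : gen f ThT5.cols →* alternatingGroup (Fin 9) := (MonoidHom.snd _ _).comp (Subgroup.subtype _)
  have s2 : Function.Surjective p2 := by
    rw [← MonoidHom.range_eq_top, MonoidHom.range_comp, range_subtype, map_gen]
    exact α_top
  let ι : K.K →* J × alternatingGroup (Fin 9) := (MonoidHom.inl _ _).comp ψ
  have hι : Function.Injective ι := fun a b h => hi (congrArg Prod.fst h)
  have q1 : QK.map ι ≤ gen f ThT5.cols := by
    rw [map_le_iff_le_comap, QK, genW, closure_le]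
    rintro _ ⟨w, hw, rfl⟩
    have h1 := (by decide +kernel : ∀ w ∈ E.cw, ∀ c ∈ w, c < 9 ∧ c ∈ ThT5.cols) w hw
    change (ψ (ev K.σ w), 1) ∈ gen f ThT5.cols
    rw [hψw w fun c hc => (h1 c hc).1, ← α_rel w (by simp [hw]), ← evf]
    exact ev_mem_gen fun c hc => (h1 c hc).2
  have q2 : (QK.map ι).subgroupOf (gen f ThT5.cols) ≤ p2.ker := by
    rintro ⟨_, _⟩ ⟨q, -, rfl⟩; rfl
  have q3 : Nat.card ((QK.map ι).subgroupOf (gen f ThT5.cols)) = Nat.card QK := by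
    rw [Nat.card_congr (subgroupOfEquivOfLe q1).toEquiv, card_map_of_injective hι]
  have c1 : 181440 * Nat.card p2.ker = Nat.card (gen f ThT5.cols) := by
    rw [← p2.ker.index_mul_card, index_ker, MonoidHom.range_eq_top.2 s2, card_top, card_A9]
  have c2 := card_le_of_le q2
  have c3 := le_QK
  have c4 : Nat.card QK = 512 := by omega
  have q4 := eq_of_le_of_card_ge q2 (by omega)
  have m1 : ∀ x : gen f ThT5.cols, (x : J × alternatingGroup (Fin 9)).1 ∈ gen e ThT5.cols := fun x =>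
    (map_gen (MonoidHom.fst _ _) f ThT5.cols).le ⟨x, x.2, rfl⟩
  let p1 : gen f ThT5.cols →* gen e ThT5.cols :=
    ((MonoidHom.fst J (alternatingGroup (Fin 9))).comp (gen f ThT5.cols).subtype).codRestrict _ m1
  have s1 : Function.Surjective p1 := by
    rintro ⟨y, hy⟩
    obtain ⟨x, hx, rfl⟩ := (map_gen (MonoidHom.fst _ _) f ThT5.cols).ge hy
    exact ⟨⟨x, hx⟩, rfl⟩
  have i1 : Function.Injective p1 := by
    have simp9 : IsSimpleGroup (alternatingGroup (Fin 9)) := alternatingGroup.isSimpleGroup (by simp)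
    rw [← MonoidHom.ker_eq_bot_iff]
    rcases (Normal.map inferInstance p2 s2 : (p1.ker.map p2).Normal).eq_bot_or_eq_top with h | h
    · rw [eq_bot_iff]
      intro x hx
      have h1 : p2 x ∈ p1.ker.map p2 := ⟨x, hx, rfl⟩
      rw [h, mem_bot] at h1
      exact Subtype.ext (Prod.ext (congrArg Subtype.val hx) h1)
    · obtain ⟨x, hx, h1⟩ : α 5 ∈ p1.ker.map p2 := h ▸ mem_top _
      have h2 : (⟨f 5, mem_gen (by decide)⟩ * x⁻¹ : gen f ThT5.cols) ∈ p2.ker := by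
        rw [MonoidHom.mem_ker, map_mul, map_inv, h1]; exact mul_inv_cancel _
      rw [← q4] at h2
      obtain ⟨q, hq, h3⟩ := h2
      have h4 : ψ q = e 5 * (x : J × alternatingGroup (Fin 9)).1⁻¹ := congrArg Prod.fst h3
      rw [show (x : J × alternatingGroup (Fin 9)).1 = 1 from congrArg Subtype.val hx, inv_one,
        mul_one, ← hψ 5 (by norm_num)] at h4
      have h5 := QK.orderOf_dvd_natCard hq
      have := Fact.mk (by norm_num : Nat.Prime 7)
      rw [hi h4, c4, show K.σ 5 = ev K.σ [5] by simp, orderOf_eq_prime s7.1 s7.2] at h5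
      exact absurd h5 (by norm_num)
  let g := MulEquiv.ofBijective p1 ⟨i1, s1⟩
  refine ⟨p2.comp g.symm.toMonoidHom, s2.comp g.symm.surjective, ?_, ?_, c4, ?_⟩
  · ext y
    obtain ⟨x, rfl⟩ := g.surjective y
    rw [MonoidHom.mem_ker, show (p2.comp g.symm.toMonoidHom) (g x) = p2 x from
      congrArg p2 (g.symm_apply_apply x), ← MonoidHom.mem_ker]
    constructor
    · intro h
      rw [← q4] at h
      obtain ⟨q, hq, h3⟩ := h
      exact ⟨q, hq, congrArg Prod.fst h3⟩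
    · rintro ⟨q, hq, h3⟩
      rw [← i1 (a₁ := ⟨ι q, q1 ⟨q, hq, rfl⟩⟩) (Subtype.ext h3)]
      rfl
  · rintro _ ⟨q, hq, rfl⟩
    exact m1 ⟨ι q, q1 ⟨q, hq, rfl⟩⟩
  · rw [← Nat.card_congr g.toEquiv]; omega

end H19.Th
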