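import Mathlib
import Cfsg.Agent.H19.Th.R248.B
import Cfsg.Agent.H19.Th.R248.C0
import Cfsg.Agent.H19.Th.R248.C1

set_option autoImplicit false
set_option maxRecDepth 100000
set_option Elab.async false
set_option linter.all false

namespace H19.Th.R248
open H29

/-- The matrices. -/
noncomputable def σ (c : ℕ) : GL (Fin 248) (ZMod 3) := M.gl (lc c)
theorem hl : (∀ c, C.Rep (σ c) (lc c)) ∧ IvOK σ (ivOf Th.ivl) :=
  M.letters Th.hii (by decide) (lt_step (lt_step (lt_step (lt_step (lt_step (lt_step (lt_step (lt_step (lt_step (lt_step (lt_step lt_base l0) l1) l2) l3) l4) l5) l6) l7) l8) l9) l10)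
def R0 : List (List ℕ) := (((((((G0 ++ G1) ++ G2) ++ G3) ++ G4) ++ G5) ++ G6) ++ G7)
theorem hR0 : ∀ r ∈ R0, ev σ r = 1 := (rels_append (rels_append (rels_append (rels_append (rels_append (rels_append (rels_append (C.rels hl.1 hl.2 r0) (C.rels hl.1 hl.2 r1)) (C.rels hl.1 hl.2 r2)) (C.rels hl.1 hl.2 r3)) (C.rels hl.1 hl.2 r4)) (C.rels hl.1 hl.2 r5)) (C.rels hl.1 hl.2 r6)) (C.rels hl.1 hl.2 r7))

end H19.Th.R248
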