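import Mathlib
import Cfsg.Agent.H19.Th.W.B
import Cfsg.Agent.H19.Th.W.C0
import Cfsg.Agent.H19.Th.W.C1
import Cfsg.Agent.H19.Th.W.C2

set_option autoImplicit false
set_option maxRecDepth 100000
set_option Elab.async false
set_option linter.all false

namespace H19.Th.W
open H29

theorem d243 {H : Subgroup (GL (Fin 248) (ZMod 3))} [Finite H] (h : ∀ c < 9, R248.σ c ∈ H) :
    243 ∣ Nat.card H := by
  obtain ⟨τ, h1, h2⟩ := exists_of_slp R248.C (H := H) (xs := xa) (n := 9) (defs := da)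
    (fun c hc => ⟨_, h c hc, H29.beq_true.1 (allN_true.1 ba c hc) ▸ R248.hl.1 c⟩) (lt_step (lt_step (lt_step (lt_step (lt_step (lt_step (lt_step (lt_step lt_base sa0) sa1) sa2) sa3) sa4) sa5) sa6) sa7) (by decide)
  have h3 : ∀ L, gen τ L ≤ H := fun L => gen_le.2 fun c _ => h1 c
  have : ∀ L, Finite (gen τ L) := fun L => Finite.of_injective _ (Subgroup.inclusion_injective (h3 L))
  exact Dvd.dvd.trans (by decide) ((R248.M.dvd_of_chkOrb h2 oa0 (R248.M.dvd_of_chkOrb h2 oa1 (one_dvd _))).trans (Subgroup.card_dvd_of_le (h3 _)))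
theorem d59049 {H : Subgroup (GL (Fin 248) (ZMod 3))} [Finite H] (h : ∀ c < 11, R248.σ c ∈ H) :
    59049 ∣ Nat.card H := by
  obtain ⟨τ, h1, h2⟩ := exists_of_slp R248.C (H := H) (xs := xb) (n := 11) (defs := db)
    (fun c hc => ⟨_, h c hc, H29.beq_true.1 (allN_true.1 bb c hc) ▸ R248.hl.1 c⟩) (lt_step (lt_step (lt_step (lt_step (lt_step (lt_step (lt_step (lt_step (lt_step (lt_step (lt_step (lt_step (lt_step (lt_step (lt_step (lt_step (lt_step (lt_step (lt_step (lt_step (lt_step (lt_step (lt_step (lt_step (lt_step lt_base sb0) sb1) sb2) sb3) sb4) sb5) sb6) sb7) sb8) sb9) sb10) sb11) sb12) sb13) sb14) sb15) sb16) sb17) sb18) sb19) sb20) sb21) sb22) sb23) sb24) (by decide)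
  have h3 : ∀ L, gen τ L ≤ H := fun L => gen_le.2 fun c _ => h1 c
  have : ∀ L, Finite (gen τ L) := fun L => Finite.of_injective _ (Subgroup.inclusion_injective (h3 L))
  exact Dvd.dvd.trans (by decide) ((R248.M.dvd_of_chkOrb h2 ob0 (R248.M.dvd_of_chkOrb h2 ob1 (R248.M.dvd_of_chkOrb h2 ob2 (R248.M.dvd_of_chkOrb h2 ob3 (one_dvd _))))).trans (Subgroup.card_dvd_of_le (h3 _)))
theorem d125 {H : Subgroup (GL (Fin 248) (ZMod 3))} [Finite H] (h : ∀ c < 11, R248.σ c ∈ H) :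
    125 ∣ Nat.card H := by
  obtain ⟨τ, h1, h2⟩ := exists_of_slp R248.C (H := H) (xs := xc) (n := 11) (defs := dc)
    (fun c hc => ⟨_, h c hc, H29.beq_true.1 (allN_true.1 bc c hc) ▸ R248.hl.1 c⟩) (lt_step (lt_step (lt_step (lt_step (lt_step (lt_step (lt_step (lt_step (lt_step lt_base sc0) sc1) sc2) sc3) sc4) sc5) sc6) sc7) sc8) (by decide)
  have h3 : ∀ L, gen τ L ≤ H := fun L => gen_le.2 fun c _ => h1 c
  have : ∀ L, Finite (gen τ L) := fun L => Finite.of_injective _ (Subgroup.inclusion_injective (h3 L))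
  exact Dvd.dvd.trans (by decide) ((R248.M.dvd_of_chkOrb h2 oc0 (R248.M.dvd_of_chkOrb h2 oc1 (one_dvd _))).trans (Subgroup.card_dvd_of_le (h3 _)))
theorem p19 : ev R248.σ [1, 3, 4, 6, 10] ^ 19 = 1 ∧ ev R248.σ [1, 3, 4, 6, 10] ≠ 1 := R248.C.pow_eq_one R248.hl.1 (by norm_num) q19
theorem p31 : ev R248.σ [0, 1, 5, 4, 3, 10] ^ 31 = 1 ∧ ev R248.σ [0, 1, 5, 4, 3, 10] ≠ 1 := R248.C.pow_eq_one R248.hl.1 (by norm_num) q31
theorem hA : ev R248.σ [10, 3, 2, 3, 9] = ev R248.σ [2, 5, 4, 3, 2, 3, 4, 5, 4, 3, 2, 3, 4, 6, 6, 4, 6, 4, 3, 2, 3, 4, 5, 4] :=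
  R248.C.eqs R248.hl.1 eA ([10, 3, 2, 3, 9], [2, 5, 4, 3, 2, 3, 4, 5, 4, 3, 2, 3, 4, 6, 6, 4, 6, 4, 3, 2, 3, 4, 5, 4]) (List.mem_singleton_self _)
theorem ne0 : ev R248.σ [0] ≠ 1 := R248.C.ev_ne R248.hl.1 (v := []) (by decide +kernel)

end H19.Th.W
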