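import Mathlib
import Cfsg.Agent.H29.Quo
import Cfsg.Agent.H19.Th.W
import Cfsg.Agent.H19.Th.K
import Cfsg.Agent.H19.ThT5

/-!
# The representation of the presented Thompson group in dimension 248
-/

set_option autoImplicit false
set_option maxRecDepth 100000

namespace H19.Th
open H29

theorem hR248 : ∀ r ∈ R, ev R248.σ r = 1 := rels_red R248.hl.2 R248.hR0 (by decide +kernel)

theorem exists_ρ : ∃ ρ : P.G →* GL (Fin 248) (ZMod 3), ∀ c < 11, ρ (P.e c) = R248.σ c :=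
  PData.exists_hom coh hg R248.hl.2 (relL ▸ hR248)

/-- The representation of dimension 248. -/
noncomputable def ρ : P.G →* GL (Fin 248) (ZMod 3) := exists_ρ.choose

theorem hρ (c : ℕ) : ρ (P.e c) = R248.σ c := by
  by_cases hc : c < 11
  · exact exists_ρ.choose_spec c hc
  · rw [PData.e_eq_one (by change 11 ≤ c; omega), map_one]
    refine R248.C.eq R248.C.rep_one ?_
    have := R248.hl.1 c
    rwa [R248.lc, nth_default _ (by change 11 ≤ c; omega)] at this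

theorem ρ_ev (w : List ℕ) : ρ (ev P.e w) = ev R248.σ w := by rw [map_ev, funext hρ]

theorem ρφ (c : ℕ) (hc : c < 9) : (ρ.comp K.φ) (K.σ c) = R248.σ c := by
  rw [MonoidHom.comp_apply, K.hφ c hc, hρ]

theorem ρφ_inj : Function.Injective (ρ.comp K.φ) := by
  have : Finite (ρ.comp K.φ).range := Finite.of_surjective _ (ρ.comp K.φ).rangeRestrict_surjective
  have h1 : 243 ∣ Nat.card (ρ.comp K.φ).range := W.d243 fun c hc => ⟨_, ρφ c hc⟩
  have h2 : 211341312 ∣ Nat.card (ρ.comp K.φ).range := by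
    rw [← (D4.sub R248.hl.2 (rels_sub hR248 (by decide +kernel)) W.ne0).2]
    exact Subgroup.card_dvd_of_le (gen_le.2 fun c hc =>
      ⟨_, ρφ c ((by decide +kernel : ∀ c ∈ ThT1.cols, c < 9) c hc)⟩)
  have h3 := ((ρ.comp K.φ).rangeRestrict_surjective.bijective_of_nat_card_le (by
    rw [K.card]
    exact Nat.le_of_dvd Nat.card_pos (Dvd.dvd.trans (by decide +kernel) (Nat.lcm_dvd h1 h2)))).1
  exact fun a b e => h3 (Subtype.ext e)

theorem φ_inj : Function.Injective K.φ := Function.Injective.of_comp (f := ρ) ρφ_inj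

theorem range_φ : K.φ.range = gen P.e [0, 1, 2, 3, 4, 5, 7] := by
  rw [range_eq_gen (L := K.L9) (σ := P.e)
    (fun c hc => K.hφ c ((by decide +kernel : ∀ c ∈ K.L9, c < 9) c hc)) K.top9]
  exact le_antisymm (gen_sub_iv hiv0 (by decide +kernel)) (gen_sub (by decide +kernel))

theorem map_words : (Subgroup.closure ({Cfsg.Spor.Th.a, Cfsg.Spor.Th.b, Cfsg.Spor.Th.c, Cfsg.Spor.Th.d,
    Cfsg.Spor.Th.e, Cfsg.Spor.Th.s, Cfsg.Spor.Th.t} : Set (FreeGroup Cfsg.Spor.Th.Gen))).map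
    (PresentedGroup.mk (Cfsg.Spor.coxRelators Cfsg.Spor.Th.edges ∪ {r | r ∈ Cfsg.Spor.Th.extra})) =
      K.φ.range := by
  rw [range_φ]
  exact PData.map_closure coh hg
    (ws := [Cfsg.Spor.Th.a, Cfsg.Spor.Th.b, Cfsg.Spor.Th.c, Cfsg.Spor.Th.d, Cfsg.Spor.Th.e,
      Cfsg.Spor.Th.s, Cfsg.Spor.Th.t]) (by simp)
    (W := fun c => [c]) (by simp) (by decide +kernel)

/-- The conjugate of `c ^ d` by `u` lies in the subgroup. -/
theorem relA : ev P.e (10 :: [3, 2, 3] ++ 9 :: invW (ivOf ivl) (nth [] K.wk 14)) = 1 := by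
  obtain ⟨k, hk⟩ : ev P.e (10 :: [3, 2, 3] ++ 9 :: invW (ivOf ivl) (nth [] K.wk 14)) ∈ K.φ.range :=
    mem_of_fix (H := K.φ.range) ThT5.ok hiv0
      (ThT5.der _ _ hiv0 (rels_sub hR (by decide +kernel)))
      (fun c hc => ⟨_, K.hφ c ((by decide +kernel : ∀ c ∈ ThT5.T.hcols, c < 9) c hc)⟩) ThT5.hn
      (by decide +kernel)
  have e : (10 :: [3, 2, 3] ++ 9 :: invW (ivOf ivl) (nth [] K.wk 14)) = [10, 3, 2, 3, 9] ++
      invW (ivOf ivl) [2, 5, 4, 3, 2, 3, 4, 5, 4, 3, 2, 3, 4, 6, 6, 4, 6, 4, 3, 2, 3, 4, 5, 4] := by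
    decide +kernel
  have h1 : (ρ.comp K.φ) k = (ρ.comp K.φ) 1 := by
    rw [MonoidHom.comp_apply, hk, ρ_ev, map_one, e, ev_append, ev_invW R248.hl.2, W.hA,
      mul_inv_cancel]
  rw [← hk, ρφ_inj h1, map_one]

theorem hal : ∀ c ∈ [0, 2, 4, 7, 8, 11, 12, 13], K.φ (K.σ c) * P.e 9 =
    P.e 9 * K.φ (K.σ (nth 0 [0, 1, 2, 3, 4, 5, 6, 8, 7, 9, 10, 14, 12, 15] c)) := by
  have h1 := al_of_rels (al := nth 0 [0, 1, 2, 3, 4, 5, 6, 8, 7, 9, 10, 14, 12, 15])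
    (dl := [0, 2, 4, 7, 8]) (zl := 9) hiv0 K.hφ hR (by decide +kernel)
  intro c hc
  rcases (by decide +kernel : ∀ c ∈ [0, 2, 4, 7, 8, 11, 12, 13],
    c ∈ [0, 2, 4, 7, 8] ∨ c = 11 ∨ c = 12 ∨ c = 13) c hc with h | rfl | rfl | rfl
  · exact h1 c h
  · rw [K.hφw, K.hφw]; exact al_of_word hiv0 relA
  · rw [K.hφw, K.hφw]
    exact al_of_word hiv0 (ev_rot (hR [4, 6, 6, 10, 5, 5, 4, 6, 6, 9, 5, 5] (by decide +kernel)) 3)
  · rw [K.hφw, K.hφw]
    exact al_of_word hiv0 (hR [10, 1, 2, 0, 1, 9, 1, 0, 2, 1, 4] (by decide +kernel))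

end H19.Th
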