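import Mathlib
import Cfsg.Agent.H19.Th.DC.C0
import Cfsg.Agent.H19.Th.DC.C1
import Cfsg.Agent.H19.Th.DC.C2
import Cfsg.Agent.H19.Th.DC.C3
import Cfsg.Agent.H19.Th.DC.C4
import Cfsg.Agent.H19.Th.DC.C5
import Cfsg.Agent.H19.Th.DC.C6
import Cfsg.Agent.H19.Th.DC.C7
import Cfsg.Agent.H19.Th.DC.C8
import Cfsg.Agent.H19.Th.DC.R0
import Cfsg.Agent.H19.Th.DC.R1
import Cfsg.Agent.H19.Th.DC.R2
import Cfsg.Agent.H19.Th.DC.S0
import Cfsg.Agent.H19.Th.DC.S1
import Cfsg.Agent.H19.Th.DC.S2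
import Cfsg.Agent.H19.Th.DC.S3
import Cfsg.Agent.H19.Th.DC.S4
import Cfsg.Agent.H19.Th.DC.S5
import Cfsg.Agent.H19.Th.Rho
import Cfsg.Agent.H19.Th.E

set_option autoImplicit false
set_option maxRecDepth 100000
set_option Elab.async false
set_option linter.all false

namespace H19.Th.DC
open H29

theorem live0 : D.chkLive 4258 [0, 1, 2, 3, 4, 5, 6, 7, 8, 9, 10] l0 = true := DD.chkLive_of gen0 row0_0
theorem cover0 : ∀ x : K.K, ∃ s ∈ genW K.σ l0.gw, ∃ w ∈ l0.pw, ∃ d ∈ gen K.σ D.dl, x = s * ev K.σ w * d :=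
  cover_of_starts N.cm N.hρ (by decide +kernel) st0_0 cov0
theorem live1 : D.chkLive 4258 [0, 1, 2, 3, 4, 5, 6, 7, 8, 9, 10] l1 = true := DD.chkLive_of gen1 row1_0
theorem cover1 : ∀ x : K.K, ∃ s ∈ genW K.σ l1.gw, ∃ w ∈ l1.pw, ∃ d ∈ gen K.σ D.dl, x = s * ev K.σ w * d :=
  cover_of_starts N.cm N.hρ (by decide +kernel) st1_0 cov1
theorem live2 : D.chkLive 4258 [0, 1, 2, 3, 4, 5, 6, 7, 8, 9, 10] l2 = true := DD.chkLive_of gen2 row2_0
theorem cover2 : ∀ x : K.K, ∃ s ∈ genW K.σ l2.gw, ∃ w ∈ l2.pw, ∃ d ∈ gen K.σ D.dl, x = s * ev K.σ w * d :=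
  cover_of_starts N.cm N.hρ (by decide +kernel) st2_0 cov2
theorem live3 : D.chkLive 4258 [0, 1, 2, 3, 4, 5, 6, 7, 8, 9, 10] l3 = true := DD.chkLive_of gen3 row3_0
theorem cover3 : ∀ x : K.K, ∃ s ∈ genW K.σ l3.gw, ∃ w ∈ l3.pw, ∃ d ∈ gen K.σ D.dl, x = s * ev K.σ w * d :=
  cover_of_starts N.cm N.hρ (by decide +kernel) st3_0 cov3
theorem live4 : D.chkLive 4258 [0, 1, 2, 3, 4, 5, 6, 7, 8, 9, 10] l4 = true := DD.chkLive_of gen4 row4_0
theorem cover4 : ∀ x : K.K, ∃ s ∈ genW K.σ l4.gw, ∃ w ∈ l4.pw, ∃ d ∈ gen K.σ D.dl, x = s * ev K.σ w * d :=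
  cover_of_starts N.cm N.hρ (by decide +kernel) st4_0 cov4
theorem live5 : D.chkLive 4258 [0, 1, 2, 3, 4, 5, 6, 7, 8, 9, 10] l5 = true := DD.chkLive_of gen5 (all2_append (all2_append row5_0 row5_1) row5_2)
theorem cover5 : ∀ x : K.K, ∃ s ∈ genW K.σ l5.gw, ∃ w ∈ l5.pw, ∃ d ∈ gen K.σ D.dl, x = s * ev K.σ w * d :=
  cover_of_starts N.cm N.hρ (by decide +kernel) ((st5_0.append st5_1).append st5_2) cov5
theorem live6 : D.chkLive 4258 [0, 1, 2, 3, 4, 5, 6, 7, 8, 9, 10] l6 = true := DD.chkLive_of gen6 (all2_append (all2_append (all2_append (all2_append (all2_append (all2_append (all2_append (all2_append (all2_append (all2_append (all2_append (all2_append (all2_append (all2_append (all2_append (all2_append (all2_append (all2_append (all2_append (all2_append (all2_append (all2_append row6_0 row6_1) row6_2) row6_3) row6_4) row6_5) row6_6) row6_7) row6_8) row6_9) row6_10) row6_11) row6_12) row6_13) row6_14) row6_15) row6_16) row6_17) row6_18)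 row6_19) row6_20) row6_21) row6_22)
theorem cover6 : ∀ x : K.K, ∃ s ∈ genW K.σ l6.gw, ∃ w ∈ l6.pw, ∃ d ∈ gen K.σ D.dl, x = s * ev K.σ w * d :=
  cover_of_starts N.cm N.hρ (by decide +kernel) ((((((((((((((((((((((st6_0.append st6_1).append st6_2).append st6_3).append st6_4).append st6_5).append st6_6).append st6_7).append st6_8).append st6_9).append st6_10).append st6_11).append st6_12).append st6_13).append st6_14).append st6_15).append st6_16).append st6_17).append st6_18).append st6_19).append st6_20).append st6_21).append st6_22) cov6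
theorem live7 : D.chkLive 4258 [0, 1, 2, 3, 4, 5, 6, 7, 8, 9, 10] l7 = true := DD.chkLive_of gen7 (all2_append row7_0 row7_1)
theorem cover7 : ∀ x : K.K, ∃ s ∈ genW K.σ l7.gw, ∃ w ∈ l7.pw, ∃ d ∈ gen K.σ D.dl, x = s * ev K.σ w * d :=
  cover_of_starts N.cm N.hρ (by decide +kernel) (st7_0.append st7_1) cov7
theorem live8 : D.chkLive 4258 [0, 1, 2, 3, 4, 5, 6, 7, 8, 9, 10] l8 = true := DD.chkLive_of gen8 (all2_append row8_0 row8_1)
theorem cover8 : ∀ x : K.K, ∃ s ∈ genW K.σ l8.gw, ∃ w ∈ l8.pw, ∃ d ∈ gen K.σ D.dl, x = s * ev K.σ w * d :=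
  cover_of_starts N.cm N.hρ (by decide +kernel) (st8_0.append st8_1) cov8
theorem live9 : D.chkLive 4258 [0, 1, 2, 3, 4, 5, 6, 7, 8, 9, 10] l9 = true := DD.chkLive_of gen9 row9_0
theorem cover9 : ∀ x : K.K, ∃ s ∈ genW K.σ l9.gw, ∃ w ∈ l9.pw, ∃ d ∈ gen K.σ D.dl, x = s * ev K.σ w * d :=
  cover_of_starts N.cm N.hρ (by decide +kernel) st9_0 cov9
theorem live10 : D.chkLive 4258 [0, 1, 2, 3, 4, 5, 6, 7, 8, 9, 10] l10 = true := DD.chkLive_of gen10 (all2_append row10_0 row10_1)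
theorem cover10 : ∀ x : K.K, ∃ s ∈ genW K.σ l10.gw, ∃ w ∈ l10.pw, ∃ d ∈ gen K.σ D.dl, x = s * ev K.σ w * d :=
  cover_of_starts N.cm N.hρ (by decide +kernel) (st10_0.append st10_1) cov10
theorem live : allL LV (D.chkLive 4258 [0, 1, 2, 3, 4, 5, 6, 7, 8, 9, 10]) = true := allL_true.2 (List.forall_mem_cons.2 ⟨live0, (List.forall_mem_cons.2 ⟨live1, (List.forall_mem_cons.2 ⟨live2, (List.forall_mem_cons.2 ⟨live3, (List.forall_mem_cons.2 ⟨live4, (List.forall_mem_cons.2 ⟨live5, (List.forall_mem_cons.2 ⟨live6, (List.forall_mem_cons.2 ⟨live7, (List.forall_mem_cons.2 ⟨live8, (List.forall_mem_cons.2 ⟨live9, (List.forall_mem_cons.2 ⟨live10, (fun _ h => absurd h List.not_mem_nil)⟩)⟩)⟩)⟩)⟩)⟩)⟩)⟩)⟩)⟩)⟩)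
/-- The generator `u`. -/
def z : Th.P.G := Th.P.e 9
theorem giv : IvOK (fun c => K.φ (K.σ c)) (ivOf Th.ivl) := fun c => by
  simp only [K.hiv c, map_inv]
theorem hz : Th.P.e 9 * Th.P.e 9 = ev Th.P.e [0, 2] ∧ Th.P.e 10 = ev Th.P.e [2, 0] * Th.P.e 9 :=
  sq_of_rel (zl := 9) (ui := [2, 0]) Th.hiv0 (Th.hR _ (by decide +kernel))
theorem hu : z * z = ev (fun c => K.φ (K.σ c)) [0, 2] :=
  hz.1.trans (by simp [K.hφ 0 (by norm_num), K.hφ 2 (by norm_num)])
theorem hyp : D.Hyp K.C K.σ K.φ z :=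
  ⟨rfl, rfl, rfl, K.hl, Th.hal,
    good_tpls giv hu (base_rels (l := [31, 33, 36, 37, 38]) (B := BR) hz.2 K.hφ Th.hR
      (by decide +kernel)) TO⟩
theorem upto : D.Upto K.C K.σ K.φ z 4258 := ((((((((((((((((((((((((((((((((((((((((((((((((((((((((((((((((((((((((((((((((((((((((DD.upto_zero.next' hyp chk0).next' hyp chk1).next' hyp chk2).next' hyp chk3).next' hyp chk4).next' hyp chk5).next' hyp chk6).next' hyp chk7).next' hyp chk8).next' hyp chk9).next' hyp chk10).next' hyp chk11).next' hyp chk12).next' hyp chk13).next' hyp chk14).next' hyp chk15).next' hyp chk16).next' hyp chk17).next' hyp chk18).next' hyp chk19).next' hyp chk20).next' hyp chk21).next' hyp chk22).next' hyp chk23).next' hyp chk24).next' hyp chk25).next' hyp chk26).next' hyp chk27).next' hyp chk28).next' hyp chk29).next' hyp chk30).next' hyp chk31).next' hyp chk32).next' hyp chk33).next' hyp chk34).next' hyp chk35).next' hyp chk36).next' hyp chk37).next' hyp chk38).next'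 hyp chk39).next' hyp chk40).next' hyp chk41).next' hyp chk42).next' hyp chk43).next' hyp chk44).next' hyp chk45).next' hyp chk46).next' hyp chk47).next' hyp chk48).next' hyp chk49).next' hyp chk50).next' hyp chk51).next' hyp chk52).next' hyp chk53).next' hyp chk54).next' hyp chk55).next' hyp chk56).next' hyp chk57).next' hyp chk58).next' hyp chk59).next' hyp chk60).next' hyp chk61).next' hyp chk62).next' hyp chk63).next' hyp chk64).next' hyp chk65).next' hyp chk66).next' hyp chk67).next' hyp chk68).next' hyp chk69).next' hyp chk70).next' hyp chk71).next' hyp chk72).next' hyp chk73).next' hyp chk74).next' hyp chk75).next' hyp chk76).next' hyp chk77).next' hyp chk78).next' hyp chk79).next' hyp chk80).next' hyp chk81).next' hyp chk82).next' hyp chk83).next' hyp chk84).next' hyp chk85).next' hyp chk86).next' hyp chk87)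
theorem top11 : gen Th.P.e (List.range 11) = ⊤ := PData.gen_top Th.coh Th.hg (by decide +kernel)
/-- The sizes of the double cosets. -/
def nn : Fin 11 → ℕ := ![1, 17199, 45864, 2201472, 1304576, 11741184, 105670656, 5031936, 8128512, 179712, 8805888]
/-- The orders of the stabilisers. -/
def ss : Fin 11 → ℕ := ![634023936, 36864, 13824, 288, 486, 54, 6, 126, 78, 3528, 72]
/-- The representatives of the double cosets. -/
noncomputable def rr (i : Fin 11) : Th.P.G := D.rep (fun c => K.φ (K.σ c)) z (LV.get i).j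
/-- The stabilisers. -/
noncomputable def SS (i : Fin 11) : Subgroup K.K := genW K.σ (LV.get i).gw
theorem SS0 : SS 0 = ⊤ := top_unique (K.top9 ▸ gen_le_genW K.hiv (by decide +kernel))
theorem le_ss : ∀ i, ss i ≤ Nat.card (SS i) := by
  simp only [Fin.forall_fin_succ, IsEmpty.forall_iff, and_true]
  exact ⟨by rw [SS0, Subgroup.card_top, K.card]; rfl, E.le1, E.le2, E.le3, E.le4, E.le5, E.le6, E.le7, E.le8, E.le9, E.le10⟩
theorem nn_ss : ∀ i, nn i * ss i = 634023936 := by decide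
theorem dcs : DCS K.φ rr SS nn :=
  DD.dcs (L := LV) hyp upto live (by decide) (hu ▸ ⟨ev K.σ [0, 2], map_ev _ _ _⟩)
    (range_sup_eq_top Th.hiv0 top11 K.hφ (by decide +kernel)) (List.forall_mem_cons.2 ⟨cover0, (List.forall_mem_cons.2 ⟨cover1, (List.forall_mem_cons.2 ⟨cover2, (List.forall_mem_cons.2 ⟨cover3, (List.forall_mem_cons.2 ⟨cover4, (List.forall_mem_cons.2 ⟨cover5, (List.forall_mem_cons.2 ⟨cover6, (List.forall_mem_cons.2 ⟨cover7, (List.forall_mem_cons.2 ⟨cover8, (List.forall_mem_cons.2 ⟨cover9, (List.forall_mem_cons.2 ⟨cover10, (fun _ h => absurd h List.not_mem_nil)⟩)⟩)⟩)⟩)⟩)⟩)⟩)⟩)⟩)⟩)⟩)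
    fun i => by
      change Nat.card K.K ≤ nn i * Nat.card (SS i)
      rw [K.card, ← nn_ss i]
      exact Nat.mul_le_mul_left _ (le_ss i)
theorem sum_nn : ∑ i, nn i = 143127000 := by decide
instance instFinTh : Finite Th.P.G := dcs.finite
theorem card_le : Nat.card Th.P.G ≤ 90745943887872000 := by
  have := dcs.card_le
  rwa [sum_nn, K.card] at this

end H19.Th.DC
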