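import Mathlib
import Cfsg.Agent.H19.Th.DC
import Cfsg.Agent.H19.Th.Cs

/-!
# The order and the simplicity of the presented Thompson group
-/

set_option autoImplicit false
set_option maxRecDepth 100000

namespace H19.Th

open H29 Subgroup

theorem σ_mem (c : ℕ) : R248.σ c ∈ ρ.range := ⟨_, hρ c⟩

instance instFinRange : Finite ρ.range := Finite.of_surjective _ ρ.rangeRestrict_surjective

theorem dvd_range : 90745943887872000 ∣ Nat.card ρ.range := by
  have h1 : 92897280 ∣ Nat.card ρ.range := by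
    obtain ⟨-, -, -, -, -, h⟩ := cstruct R248.hl.2 hR248 ρφ ρφ_inj
    rw [← h]
    exact card_dvd_of_le (gen_le.2 fun c _ => σ_mem c)
  have h2 : 59049 ∣ Nat.card ρ.range := W.d59049 fun c _ => σ_mem c
  have h5 : 125 ∣ Nat.card ρ.range := W.d125 fun c _ => σ_mem c
  have h3 : 634023936 ∣ Nat.card ρ.range := by
    rw [← K.card, Nat.card_congr (MonoidHom.ofInjective ρφ_inj).toEquiv]
    exact card_dvd_of_le (by rintro _ ⟨x, rfl⟩; exact ⟨_, rfl⟩)
  have h4 : ∀ (p : ℕ) [Fact p.Prime] (w : List ℕ), ev R248.σ w ^ p = 1 ∧ ev R248.σ w ≠ 1 →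
      p ∣ Nat.card ρ.range := fun p _ w h => by
    rw [← orderOf_eq_prime h.1 h.2]
    exact Subgroup.orderOf_dvd_natCard _ (ev_mem fun c _ => σ_mem c)
  have := Fact.mk (by norm_num : Nat.Prime 19)
  have := Fact.mk (by norm_num : Nat.Prime 31)
  have := Nat.lcm_dvd (Nat.lcm_dvd (Nat.lcm_dvd (Nat.lcm_dvd (Nat.lcm_dvd h1 h2) h3) h5)
    (h4 _ _ W.p19)) (h4 _ _ W.p31)
  exact Dvd.dvd.trans (by norm_num) this

theorem card_and_inj : Nat.card P.G = 90745943887872000 ∧ Function.Injective ρ := by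
  have h1 := Nat.le_of_dvd Nat.card_pos dvd_range
  have h2 := Nat.card_le_card_of_surjective _ ρ.rangeRestrict_surjective
  have h3 := DC.card_le
  have h4 := (ρ.rangeRestrict_surjective.bijective_of_nat_card_le (h3.trans h1)).1
  exact ⟨by omega, fun a b e => h4 (Subtype.ext e)⟩

theorem card : Nat.card P.G = 90745943887872000 := card_and_inj.1

theorem ρ_inj : Function.Injective ρ := card_and_inj.2

theorem hx : (∑ i, DC.nn i) * Nat.card K.K ≤ Nat.card P.G := by rw [DC.sum_nn, K.card, card]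

theorem index : K.φ.range.index = 143127000 := (DC.dcs.index_eq hx).trans DC.sum_nn

theorem cardS (i : Fin 11) : Nat.card (DC.SS i) = DC.ss i := by
  have := DC.dcs.card_S hx i
  rw [K.card, ← DC.nn_ss i] at this
  exact Nat.eq_of_mul_eq_mul_left ((by decide : ∀ i, 0 < DC.nn i) i) this

/-- A normal subgroup of `³D₄(2):3` meets `³D₄(2)` trivially or contains it. -/
theorem normal_K (M : Subgroup K.K) [M.Normal] : M ⊓ K.L = ⊥ ∨ K.L ≤ M := by
  have := K.simpleL.1
  refine (Normal.eq_bot_or_eq_top (inferInstance : (M.subgroupOf K.L).Normal)).imp ?_ ?_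
  · exact fun h => disjoint_iff.1 (subgroupOf_eq_bot.1 h)
  · exact subgroupOf_eq_top.1

theorem core : (DC.SS 6).normalCore = ⊥ := by
  have h1 : DC.SS 6 ≤ K.L := by
    change genW K.σ DC.gw6 ≤ _
    rw [genW, closure_le]
    rintro _ ⟨w, hw, rfl⟩
    refine ev_mem fun c hc => ?_
    rw [K.hw]
    exact ev_mem_gen ((by decide +kernel : ∀ w ∈ DC.gw6, ∀ c ∈ w, ∀ x ∈ nth [] K.wk c, x ∈ ThT1.cols)
      w hw c hc)
  rcases normal_K (DC.SS 6).normalCore with h | h
  · rwa [inf_eq_left.2 ((DC.SS 6).normalCore_le.trans h1)] at h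
  · have := card_le_of_le (h.trans (DC.SS 6).normalCore_le)
    rw [K.simpleL.2, cardS] at this
    exact absurd this (by decide)

theorem simple : IsSimpleGroup P.G := by
  have : Nontrivial P.G := Finite.one_lt_card_iff_nontrivial.1 (by rw [card]; norm_num)
  refine ⟨fun M hM => (DC.dcs.normal_cases hx (i0 := 0) (DD.rep_zero _ _ _) core
    (by decide +kernel) M).imp id fun h => ?_⟩
  have h1 : ev P.e [0, 1, 5, 4, 3, 10] ∈ M :=
    mem_of_pow_eq_one (q := 31) (m := 2927288512512000) (by rw [card])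
      (Dvd.dvd.trans (by decide) h) (by norm_num) (ρ_inj (by rw [map_pow, ρ_ev, W.p31.1, map_one]))
  have h2 : ev K.σ [0, 1, 5, 4, 3] ^ 21 = 1 :=
    (K.C.pow_eq_one K.hl (by norm_num) (by decide +kernel)).1
  have h3 : ev K.σ [0, 2] ^ 2 = 1 ∧ ev K.σ [0, 2] ≠ 1 :=
    K.C.pow_eq_one K.hl (by norm_num) (by decide +kernel)
  have h4 : DC.z ∈ M := by
    refine mem_of_coprime h1 (m := 4) (n := 21) ?_ ?_ (by norm_num)
    · rw [show 4 = 2 * 2 from rfl, pow_mul, pow_two DC.z, DC.hu, ← map_ev, ← map_pow, h3.1, map_one]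
    · have : ev P.e [0, 1, 5, 4, 3, 10] * DC.z = K.φ (ev K.σ [0, 1, 5, 4, 3]) := by
        simp [K.hφ 0 (by norm_num), K.hφ 1 (by norm_num), K.hφ 5 (by norm_num),
          K.hφ 4 (by norm_num), K.hφ 3 (by norm_num), show P.e 10 = DC.z⁻¹ from hiv0 9, mul_assoc]
      rw [this, ← map_pow, h2, map_one]
  have h5 : K.L ≤ M.comap K.φ := by
    refine (normal_K _).resolve_left fun h => h3.2 ?_
    rw [← mem_bot, ← h]
    refine mem_inf.2 ⟨?_, ev_mem_gen (by decide)⟩
    rw [mem_comap, map_ev, ← DC.hu]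
    exact mul_mem h4 h4
  have h6 : P.e 7 ∈ M := by
    have a1 : ev P.e [10, 7, 9, 7] = 1 := hR _ (by decide)
    have a2 : ev P.e [7, 7, 7] = 1 := hR _ (by decide)
    simp only [ev_cons, ev_nil, mul_one, show P.e 10 = DC.z⁻¹ from hiv0 9,
      show P.e 9 = DC.z from rfl] at a1 a2
    have a3 : P.e 7 * P.e 7 ∈ M := by
      have := mul_mem (inv_mem h4) (hM.conj_mem _ h4 (P.e 7))
      rwa [show DC.z⁻¹ * (P.e 7 * DC.z * (P.e 7)⁻¹) =
        DC.z⁻¹ * (P.e 7 * (DC.z * P.e 7)) * (P.e 7 * P.e 7)⁻¹ by group, a1, one_mul,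
        inv_mem_iff] at this
    rw [eq_inv_of_mul_eq_one_left a2]
    exact inv_mem a3
  rw [eq_top_iff, ← DC.top11, gen_le]
  intro c hc
  rcases (by decide : ∀ c ∈ List.range 11, c ∈ ThT1.cols ∧ c < 9 ∨ c = 7 ∨ c = 8 ∨ c = 9 ∨ c = 10) c hc
    with h | rfl | rfl | rfl | rfl
  · exact K.hφ c h.2 ▸ h5 (mem_gen h.1)
  · exact h6
  · exact hiv0 7 ▸ inv_mem h6
  · exact h4
  · exact hiv0 9 ▸ inv_mem h4

end H19.Th
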