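import Mathlib
import Cfsg.Agent.H19.Th.Cs

/-!
# The extraspecial group
-/

set_option autoImplicit false
set_option maxRecDepth 100000

namespace H19.Th
open H29 Subgroup
open scoped commutatorElement

theorem _root_.H19.Codes.beq_false {G : Type*} [Group G] (C : Codes G) {g g' : G} {x y : ℕ}
    (h : C.Rep g x) (h' : C.Rep g' y) (hne : g ≠ g') : Nat.beq x y = false :=
  Bool.eq_false_iff.2 fun e => hne (C.eq h (H29.beq_true.1 e ▸ h'))

theorem _root_.H19.Codes.comm_test {G : Type*} [Group G] (C : Codes G) {τ : ℕ → G} {xs : List ℕ}
    (hx : ∀ k, C.Rep (τ k) (nth C.one xs k)) {g : G} {x : ℕ} (h : C.Rep g x)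
    (hc : ∀ k, Commute g (τ k)) : (allL xs fun y => Nat.beq (C.mul x y) (C.mul y x)) = true := by
  rw [allL_true]
  intro y hy
  obtain ⟨k, hk, rfl⟩ := List.getElem_of_mem hy
  have h2 := hx k
  rw [nth_eq, List.getD_eq_getElem _ _ hk] at h2
  exact H29.beq_true.2 (C.code_eq (C.rep_mul h h2) ((hc k).eq ▸ C.rep_mul h2 h))

/-- Test that the square is neither `1` nor `a`. -/
noncomputable def tS : ℕ → Bool := fun x => seqN (K.C.mul x x) fun y =>
  Bool.rec (Bool.rec true false (Nat.beq y (K.lc 0))) false (Nat.beq y K.C.one)
theorem eS_0 : En E.fQ tS E.lQ_0 0 (nat_lit 0x8021004010802008420080000842108001000000040100400080010802000401000210800100421000210840000420080000040000401000000042008420004200000008001004000802008020000010040000021084010040008400084200842100000080210040008020004000802000000004200000100020080200802108021000000000008000000000000108001080000042000001000000002008001084000000008000000200000000000080210000000420004010802008020004210042000000000000000008000000000000000400004000840100401080010840100000000000000100400080000000008001080000000000401000000840000000004010000100001004210802000001084210840000000000000000000001000000000100001000010042108020080210842108000000000000000020000000042000000000000000000000000000000008000004000000000000000000842008421004200000000001004000802008020000210040000000000000000000000000000040100000000000000000000000000000008000000000000000000000000000000001)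 0 := en_of_chk (by decide +kernel)
theorem eS_1 : En E.fQ tS E.lQ_1 (nat_lit 0x8021004010802008420080000842108001000000040100400080010802000401000210800100421000210840000420080000040000401000000042008420004200000008001004000802008020000010040000021084010040008400084200842100000080210040008020004000802000000004200000100020080200802108021000000000008000000000000108001080000042000001000000002008001084000000008000000200000000000080210000000420004010802008020004210042000000000000000008000000000000000400004000840100401080010840100000000000000100400080000000008001080000000000401000000840000000004010000100001004210802000001084210840000000000000000000001000000000100001000010042108020080210842108000000000000000020000000042000000000000000000000000000000008000004000000000000000000842008421004200000000001004000802008020000210040000000000000000000000000000040100000000000000000000000000000008000000000000000000000000000000001) (nat_lit 0x8421084210802000421004010800108401004200040108000080200802108420000210802000000000200842100420080000000000000000000000000401084000000000001004000802000000000210800000021084010842000420000200042100000080210040000020084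200002100400000000040000420000210040000420000000000008021000000002108001004000000000001004000000008420004200000000001004200802000000080000040000420000000042008420084010042000000000000000008000000000000000400004200040108401084010802100001000000000000000080200842008000000000000000000000200040100020000210000108001004000800100021084000840000000000000000000001000000000100001080010040008001080010840008000000000000000000000000042000401000000000000000000000000008000004000042000401000200800000420004000000008001004000802000000000010840000000000000000000000000000040100000000000000000000000000000008400000000000000000000000000000001) 0 := en_of_chk (by decide +kernel)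

theorem a2 : ev K.σ [0] ^ 2 = 1 ∧ ev K.σ [0] ≠ 1 :=
  K.C.pow_eq_one K.hl (by norm_num) (by decide +kernel)

theorem xsK (hc : Nat.card QK = 512) : H3.XS 2 (ev K.σ [0]) QK := by
  have hm : ∀ c, wE (wE K.σ E.cw) E.awQ c ∈ QK := fun _ => wE_mem (wE_mem_genW _ _) _ _
  have ha : ev K.σ [0] ∈ QK := by
    rw [K.C.eq (K.C.rep_evC K.hl [0]) ((by decide +kernel : evC K.C.mul K.C.one (nth K.C.one E.xsQ)
      [0, 1, 0, 1] = evC K.C.mul K.C.one K.lc [0]) ▸ K.C.rep_evC E.hxQ [0, 1, 0, 1])]
    exact ev_mem fun c _ => wE_mem_genW _ _ c
  have hz : ∀ x ∈ QK, Commute (ev K.σ [0]) x := by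
    have : QK ≤ centralizer {ev K.σ [0]} := by
      rw [QK, genW, closure_le]
      rintro _ ⟨w, hw, rfl⟩
      rw [SetLike.mem_coe, mem_centralizer_singleton_iff, ← ev_append, ← ev_append]
      exact K.C.eqs K.hl (E := E.cw.map fun w => (w ++ [0], [0] ++ w)) (by decide +kernel) _
        (List.mem_map.2 ⟨w, hw, rfl⟩)
    exact fun x hx => (mem_centralizer_singleton_iff.1 (this hx)).symm
  have hp : ∀ x ∈ QK, x ^ 2 ∈ zpowers (ev K.σ [0]) := by
    have h0 := ncard_le_of_en K.C E.hyQ hm (eS_0.append eS_1)
      (by rw [hc, List.length_append, E.nQ_0, E.nQ_1])
      (Q := fun g => g * g ≠ 1 ∧ g * g ≠ ev K.σ [0]) fun g x h hx => by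
        have h1 := K.C.rep_mul hx hx
        rw [tS, seqN_eq, K.C.beq_false h1 K.C.rep_one h.1,
          K.C.beq_false h1 (K.hl 0) (by simpa using h.2)]
    rw [Nat.le_zero, Set.ncard_eq_zero, Set.eq_empty_iff_forall_notMem] at h0
    intro x hx
    by_contra h
    exact h0 x ⟨hx, fun e => h (by rw [pow_two, e]; exact one_mem _),
      fun e => h (by rw [pow_two, e]; exact mem_zpowers _)⟩
  refine ⟨orderOf_eq_prime a2.1 a2.2, ha, hz, fun x hx y hy => ?_, hp, fun x hx h => ?_⟩
  · rw [show ⁅x, y⁆ = x ^ 2 * (x⁻¹ * y) ^ 2 * (y ^ 2)⁻¹ by
      rw [commutatorElement_def, pow_two, pow_two, pow_two]; group]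
    exact mul_mem (mul_mem (hp x hx) (hp _ (mul_mem (inv_mem hx) hy))) (inv_mem (hp y hy))
  · obtain ⟨l, b, h1, e⟩ := E.eQ
    have h0 := ncard_le_of_en K.C E.hyQ hm h1 (by rw [hc, e])
      (Q := fun g => ∀ y ∈ QK, Commute g y) fun g x h hx => by
        unfold E.tZ
        exact K.C.comm_test E.hxQ hx fun k => h _ (wE_mem_genW _ _ k)
    by_contra h2
    have h3 : ({x, 1, ev K.σ [0]} : Set K.K).ncard = 3 := Set.ncard_eq_three.2 ⟨_, _, _,
      fun e : x = 1 => h2 (e ▸ one_mem _), fun e : x = _ => h2 (by rw [e]; exact mem_zpowers _),
      a2.2.symm, rfl⟩
    have h4 := Set.ncard_le_ncard (s := ({x, 1, ev K.σ [0]} : Set K.K))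
      (t := {g | g ∈ QK ∧ ∀ y ∈ QK, Commute g y}) (by
        rintro _ (rfl | rfl | rfl)
        exacts [⟨hx, h⟩, ⟨one_mem _, fun y _ => Commute.one_left y⟩, ⟨ha, hz⟩])
    omega

end H19.Th
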