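import Mathlib
import Cfsg.Agent.H19.Th.Ord
import Cfsg.Agent.H19.Th.XQ

/-!
# The centraliser of an involution in the presented Thompson group
-/

set_option autoImplicit false
set_option maxRecDepth 100000

namespace H19.Th

open H29 Subgroup

theorem centA_le : Nat.card (centralizer ({ev K.σ [0]} : Set K.K)) ≤ 774144 :=
  cent_le_of_model N.cm E.clsA (f := 1071) (d := 36864)
    (by rw [map_ev_sg fun c hc => N.hρ c ((by decide : ∀ c ∈ [0], c ∈ N.cols) c hc)]; exact E.fixA)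
    (by rw [K.card]) (by norm_num) (by norm_num)

theorem centB_le : Nat.card (centralizer ({ev K.σ [4, 13]} : Set K.K)) ≤ 9216 :=
  cent_le_of_model N.cm E.clsB (f := 175) (d := 36864)
    (by rw [map_ev_sg fun c hc => N.hρ c ((by decide : ∀ c ∈ [4, 13], c ∈ N.cols) c hc)]; exact E.fixB)
    (by rw [K.card]) (by norm_num) (by norm_num)

theorem comm_a : ∀ c ∈ [0, 2, 3, 4, 5, 6, 7, 8], K.σ c * K.σ 0 = K.σ 0 * K.σ c := fun c hc => by
  simpa using K.C.eqs K.hl (E := [0, 2, 3, 4, 5, 6, 7, 8].map fun c => ([c, 0], [0, c]))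
    (by decide +kernel) _ (List.mem_map.2 ⟨c, hc, rfl⟩)

theorem centA_ge : 16128 ≤ Nat.card (centralizer ({ev K.σ [0]} : Set K.K)) :=
  (le_card_of_chain N.hn _ _ (fun c hc => N.hρ c
    ((by decide : ∀ c ∈ [0, 2, 3, 4, 5, 6, 7, 8], c ∈ N.cols) c hc)) E.chA).trans
    (card_le_of_le (gen_le.2 fun c hc => by
      rw [mem_centralizer_singleton_iff, ev_cons, ev_nil, mul_one]; exact comm_a c hc))

theorem b2 : ev K.σ [4, 13] ^ 2 = 1 ∧ ev K.σ [4, 13] ≠ 1 :=
  K.C.pow_eq_one K.hl (by norm_num) (by decide +kernel)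

theorem φa : K.φ (ev K.σ [0]) = P.e 0 := by simp [K.hφ 0 (by norm_num)]

/-- The two classes of involutions of `³D₄(2)` fuse. -/
theorem fuse : IsConj (P.e 0) (K.φ (ev K.σ [4, 13])) := by
  have h1 := hal 13 (by decide)
  have h2 : K.σ (nth 0 [0, 1, 2, 3, 4, 5, 6, 8, 7, 9, 10, 14, 12, 15] 13) = ev K.σ [4, 13] := by
    rw [← K.C.ev_eq K.hl (u := [15]) (v := [4, 13]) (by decide +kernel), ev_cons, ev_nil, mul_one]
    rfl
  rw [h2] at h1
  rw [← φa]
  refine (K.φ.map_isConj E.cj13).trans (isConj_iff.2 ⟨(P.e 9)⁻¹, ?_⟩)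
  rw [ev_cons, ev_nil, mul_one, inv_inv, mul_assoc, h1, inv_mul_cancel_left]

theorem sum_inv (t : ℕ) :
    ∑ i, DC.nn i * ![t, 751, 271, 31, 27, 9, 3, 7, 13, 49, 1] i = t + 710003385 := by
  simp [Fin.sum_univ_succ, DC.nn]

theorem arith {c t : ℕ} (h1 : 69615 ≤ t) (h : c * t * t ≤ (t + 710003385) * 634023936) :
    c ≤ 92897280 := by
  obtain ⟨k, rfl⟩ := Nat.exists_eq_add_of_le h1
  by_contra h1
  have h2 := Nat.mul_le_mul_right ((69615 + k) * (69615 + k)) (not_le.1 h1)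
  rw [← mul_assoc c] at h2
  nlinarith [h2.trans h, Nat.zero_le (k * k)]

theorem cent_le : Nat.card (centralizer ({P.e 0} : Set P.G)) ≤ 92897280 := by
  let T : Set K.K := {x | x ∈ (⊤ : Subgroup K.K) ∧ IsConj (ev K.σ [0]) x} ∪
    {x | x ∈ (⊤ : Subgroup K.K) ∧ IsConj (ev K.σ [4, 13]) x}
  have hA := card_cent_mul_top (ev K.σ [0])
  have hB := card_cent_mul_top (ev K.σ [4, 13])
  rw [card_top, K.card] at hA hB
  have c1 := centA_le
  have c2 := centB_le
  have c3 := centA_ge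
  have hT : 69615 ≤ T.ncard := by
    rw [Set.ncard_union_eq (Set.disjoint_left.2 fun x h1 h2 => by
      have h3 := h1.2.trans h2.2.symm
      rw [show {x | x ∈ (⊤ : Subgroup K.K) ∧ IsConj (ev K.σ [0]) x} =
        {x | x ∈ (⊤ : Subgroup K.K) ∧ IsConj (ev K.σ [4, 13]) x} from Set.ext fun y =>
          and_congr_right fun _ => ⟨h3.symm.trans, h3.trans⟩, ← one_mul 634023936, one_mul (1 * _),
        ← hB] at hA
      have := Nat.eq_of_mul_eq_mul_right (Nat.pos_of_ne_zero fun e => by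
        rw [e, mul_zero] at hB; exact absurd hB (by norm_num)) hA
      omega)]
    generalize Set.ncard {x | x ∈ (⊤ : Subgroup K.K) ∧ IsConj (ev K.σ [0]) x} = p at *
    generalize Set.ncard {x | x ∈ (⊤ : Subgroup K.K) ∧ IsConj (ev K.σ [4, 13]) x} = q at *
    have := Nat.mul_le_mul_right p c1
    have := Nat.mul_le_mul_right q c2
    omega
  have hQ : ∀ g x, g ∈ T → K.C.Rep g x → tInv K.C.mul K.C.one x = true := by
    rintro g x (h | h) hx
    · exact tInv_of_conj K.C a2.2 (by rw [← pow_two, a2.1]) g x h.2 hx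
    · exact tInv_of_conj K.C b2.2 (by rw [← pow_two, b2.1]) g x h.2 hx
  have h := DC.dcs.cent_sq hx (P.e 0) (T := T)
    (I := ![T.ncard, 751, 271, 31, 27, 9, 3, 7, 13, 49, 1])
    (by
      rintro x (h | h)
      · rw [← φa]; exact K.φ.map_isConj h.2
      · exact fuse.trans (K.φ.map_isConj h.2))
    (by
      rintro x (h | h) g
      · exact Or.inl ⟨trivial, h.2.trans (isConj_iff.2 ⟨g, rfl⟩)⟩
      · exact Or.inr ⟨trivial, h.2.trans (isConj_iff.2 ⟨g, rfl⟩)⟩)
    (by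
      simp only [Fin.forall_fin_succ, IsEmpty.forall_iff, and_true]
      exact ⟨Set.ncard_le_ncard fun _ h => h.2, E.inv1 (cardS 1).le hQ, E.inv2 (cardS 2).le hQ,
        E.inv3 (cardS 3).le hQ, E.inv4 (cardS 4).le hQ, E.inv5 (cardS 5).le hQ,
        E.inv6 (cardS 6).le hQ, E.inv7 (cardS 7).le hQ, E.inv8 (cardS 8).le hQ,
        E.inv9 (cardS 9).le hQ, E.inv10 (cardS 10).le hQ⟩)
  rw [K.card, sum_inv] at h
  exact arith hT h

theorem le_cent : gen P.e ThT5.cols ≤ centralizer {P.e 0} := gen_le.2 fun c hc => by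
  rw [mem_centralizer_singleton_iff]
  have h9 : P.e 9 * P.e 0 = P.e 0 * P.e 9 := by
    have := hal 0 (by decide)
    rw [K.hφ 0 (by norm_num)] at this
    exact (this.trans (congrArg _ (K.hφ 0 (by norm_num)))).symm
  rcases (by decide : ∀ c ∈ ThT5.cols, c ∈ [0, 2, 3, 4, 5, 6, 7, 8] ∧ c < 9 ∨ c = 9 ∨ c = 10) c hc
    with h | rfl | rfl
  · rw [← K.hφ c h.2, ← K.hφ 0 (by norm_num), ← map_mul, ← map_mul, comm_a c h.1]
  · exact h9
  · rw [show P.e 10 = (P.e 9)⁻¹ from hiv0 9]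
    exact (Commute.inv_left h9).eq

/-- The centraliser of `a` is generated by `a, c, d, e, s, t, u`. -/
theorem cent_a : centralizer {P.e 0} = gen P.e ThT5.cols := by
  obtain ⟨-, -, -, -, -, h⟩ := cstruct hiv0 hR K.hφ φ_inj
  exact (eq_of_le_of_card_ge le_cent (h ▸ cent_le)).symm

theorem xs_subgroupOf {G : Type*} [Group G] {p : ℕ} {z : G} {Q H : Subgroup G} (h : H3.XS p z Q)
    (hle : Q ≤ H) : H3.XS p (⟨z, hle h.mem⟩ : H) (Q.subgroupOf H) := by
  have key : ∀ x : H, (x : G) ∈ zpowers z → x ∈ zpowers (⟨z, hle h.mem⟩ : H) := by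
    rintro x ⟨k, hk⟩
    exact ⟨k, Subtype.ext hk⟩
  exact ⟨by rw [← orderOf_coe, h.ord], h.mem, fun x hx => Subtype.ext (h.central x hx),
    fun x hx y hy => key _ (h.comm x hx y hy), fun x hx => key _ (h.pow x hx),
    fun x hx hc => key _ (h.center_le x hx fun y hy => congrArg Subtype.val (hc ⟨y, hle hy⟩ hy))⟩

theorem cent_struct : orderOf (P.e 0) = 2 ∧ ∃ (Q : Subgroup (centralizer ({P.e 0} : Set P.G)))
    (_ : Q.Normal), Nat.card Q = 2 ^ 9 ∧ Cfsg.IsExtraspecial 2 Q ∧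
      Nonempty (centralizer ({P.e 0} : Set P.G) ⧸ Q ≃* alternatingGroup (Fin 9)) := by
  obtain ⟨π, h1, h2, h3, h4, -⟩ := cstruct hiv0 hR K.hφ φ_inj
  have hX := (xsK h4).map K.φ φ_inj
  have c1 : Nat.card π.ker = 512 := by
    rw [h2, Nat.card_congr (subgroupOfEquivOfLe h3).toEquiv, card_map_of_injective φ_inj, h4]
  have hY := xs_subgroupOf hX h3
  rw [← h2] at hY
  refine ⟨by rw [← φa, hX.ord], ?_⟩
  rw [cent_a]
  exact ⟨π.ker, inferInstance, c1, hY.isExtraspecial fun h => by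
    rw [← h, Nat.card_zpowers, hY.ord] at c1; exact absurd c1 (by norm_num),
    ⟨QuotientGroup.quotientKerEquivOfSurjective π h1⟩⟩

end H19.Th
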