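import Mathlib
import Cfsg.Agent.H29.Pres
import Cfsg.Prelude.Def_Spor_Th

set_option autoImplicit false
set_option maxRecDepth 100000
set_option Elab.async false
set_option linter.all false

namespace H19.Th
open H29

def idx : Cfsg.Spor.Th.Gen → ℕ
  | .a => 0
  | .b => 1
  | .c => 2
  | .d => 3
  | .e => 4
  | .s => 5
  | .t => 7
  | .u => 9
def ivl : List ℕ := [0, 1, 2, 3, 4, 6, 5, 8, 7, 10, 9]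
def P : PData Cfsg.Spor.Th.Gen := ⟨Cfsg.Spor.Th.edges, Cfsg.Spor.Th.extra, [.a, .b, .c, .d, .e, .s, .t, .u],
  [(.a, true), (.b, true), (.c, true), (.d, true), (.e, true), (.s, true), (.s, false), (.t, true), (.t, false), (.u, true), (.u, false)], idx, ivl⟩
theorem coh : P.Coh := by decide +kernel
theorem hg : ∀ x, x ∈ P.gens := by intro x; cases x <;> decide
theorem hiv0 : IvOK P.e (ivOf ivl) := PData.ivOK coh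
theorem hii : ∀ c, ivOf ivl (ivOf ivl c) = c := ivOf_ivOf (by decide +kernel)
def R : List (List ℕ) := [[0, 0],
 [1, 1],
 [2, 2],
 [3, 3],
 [4, 4],
 [0, 1, 0, 1, 0, 1],
 [0, 4, 0, 4],
 [1, 2, 1, 2, 1, 2],
 [1, 3, 1, 3],
 [1, 4, 1, 4],
 [0, 3, 2, 3, 2, 3, 2, 3, 2],
 [2, 4, 2, 4],
 [3, 4, 3, 4, 3, 4],
 [1, 2, 3, 4, 1, 2, 3, 4, 1, 2, 3, 4, 1, 2, 3, 4, 1, 2, 3, 4, 1, 2, 3, 4, 1, 2, 3, 4, 1, 2, 3, 4],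
 [5, 5, 5, 5, 5, 5, 5],
 [6, 0, 5, 0],
 [6, 1, 5, 1],
 [6, 2, 5, 2],
 [5, 3, 5, 3],
 [4, 6, 4, 6, 6, 4, 5, 5, 5],
 [7, 7, 7],
 [8, 0, 7, 0],
 [8, 1, 7, 1],
 [8, 2, 7, 2],
 [8, 3, 7, 3],
 [8, 4, 7, 4],
 [8, 5, 7, 6, 6],
 [9, 9, 2, 0],
 [10, 0, 9, 0],
 [10, 2, 9, 2],
 [10, 4, 9, 4],
 [3, 4, 10, 3, 9, 3, 4, 10, 3, 9],
 [10, 1, 2, 0, 1, 9, 1, 0, 2, 1, 4],
 [3, 10, 3, 1, 2, 0, 1, 3, 9, 3, 1, 0, 2, 1, 2, 4, 3, 10, 3, 1, 2, 0, 1, 4, 10],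
 [10, 7, 9, 7],
 [4, 6, 6, 10, 5, 5, 4, 6, 6, 9, 5, 5],
 [0, 2, 6, 10, 6, 10, 6, 10],
 [0, 2, 6, 10, 5, 9, 6, 10, 5, 9, 6, 10, 5, 9, 6, 10, 5, 9],
 [3, 6, 6, 9, 5, 5, 3, 6, 6, 9, 5, 5, 3, 6, 6, 9, 5, 5, 3, 6, 6, 9, 4, 3, 2, 3, 4, 5, 5, 5, 4, 3, 2, 3, 4, 6, 3, 2, 3, 2, 0]]
theorem relL : P.relL = R := by decide +kernel
theorem hR : ∀ r ∈ R, ev P.e r = 1 := relL ▸ PData.rels coh hg

end H19.Th
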