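import Mathlib
import Cfsg.Agent.H29.Cover
import Cfsg.Agent.H19.Th.DX
import Cfsg.Agent.H19.ThT2
import Cfsg.Agent.H19.ThT3
import Cfsg.Agent.H9.CG

set_option autoImplicit false
set_option maxRecDepth 100000
set_option Elab.async false
set_option linter.all false

namespace H19.Th.D4
open H29

open H9.MX

theorem ub : UB (ivOf ThT1.ivl) ThT1.R0 ThT1.cols 211341312 := fun _ _ _ hi hR =>
  ThT1.bd hi hR (ThT2.bd hi (rels_sub hR (by decide +kernel)) (ThT3.bd hi (rels_sub hR (by decide +kernel)) (bd_nil _)))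
/-- The permutation group. -/
abbrev S : Type := PG DP.nl
theorem hiv7 : IvOK (pe DP.nl) (ivOf DP.ivl) := ivOK_sub _ DP.hiv
theorem hiv : IvOK (pe DP.nl) (ivOf ThT1.ivl) := fun c => by
  by_cases h : c < 7
  · rw [(by decide +kernel : ∀ c < 7, ivOf ThT1.ivl c = ivOf DP.ivl c) c h]; exact hiv7 c
  · have h1 : ∀ c, ¬c < 7 → pe DP.nl c = 1 := fun c h => Subtype.ext (sg_nth_eq_one (not_lt.1 h))
    rw [h1 c h, inv_one]
    refine h1 _ ?_
    by_cases h2 : c < 11
    · exact (by decide +kernel : ∀ c < 11, ¬c < 7 → ¬ivOf ThT1.ivl c < 7) c h2 h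
    · rwa [ivOf, nth_default _ (not_lt.1 h2)]
theorem hR : ∀ r ∈ ThT1.R0, ev (pe DP.nl) r = 1 := rels_subE _ DP.hR
theorem top : gen (pe DP.nl) ThT1.cols = ⊤ := pe_top (by decide +kernel)
theorem card : Nat.card S = 211341312 ∧ ∀ g : S, (∀ i < 819, (PG DP.nl).subtype g i = i) → g = 1 :=
  card_eq_of_chain DX.hn ((ub _ _ hiv hR).of_top top) (fun c _ => DX.map (pe_rho _) c) DX.ch (by decide +kernel)
theorem trans : Trans (PG DP.nl).subtype 819 :=
  trans_of_reach (by decide) (PG_lt DP.hn) (fun c _ => pe_rho _ c)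
    (reach_of_chk (L := ThT1.cols) (r := 5) DP.hn (by decide +kernel))
theorem simple : IsSimpleGroup S :=
  simple_of_cert (q := 13) (m := 16257024) DX.hn DX.prim trans (DX.map (pe_rho _)) card.2 card.1
    DX.wit (ivOK_extE hiv7 DX.hext) (rels_of_faithful card.2 (DX.map (pe_rho _)) DX.hKR)
    ((gen_extE _ _ (by decide)).trans top) (l := [(0, 0), (1, 0), (4, 0), (2, 0), (3, 0)]) (by decide +kernel) (by norm_num)
/-- Letters satisfying the relators generate a copy of the group. -/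
theorem sub {G : Type} [Group G] {e : ℕ → G} (h1 : IvOK e (ivOf ThT1.ivl))
    (h2 : ∀ r ∈ ThT1.R0, ev e r = 1) (h3 : ev e [0] ≠ 1) :
    IsSimpleGroup (gen e ThT1.cols) ∧ Nat.card (gen e ThT1.cols) = 211341312 := by
  have := simple
  obtain ⟨f⟩ := equiv_of_simple (ub.tr (by decide) hiv hR (by rw [top, Subgroup.card_top, card.1]) h1 h2)
    hiv h1 (by decide) top ⟨[0], by decide, h3⟩
  exact ⟨f.symm.isSimpleGroup, by rw [← Nat.card_congr f.toEquiv, card.1]⟩

end H19.Th.D4
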