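import Mathlib
import Cfsg.Agent.H29.Cert

set_option autoImplicit false
set_option maxRecDepth 100000
set_option Elab.async false
set_option linter.all false

namespace H19.Th.DP
open H29

def ivl : List ℕ := [0, 1, 2, 3, 4, 6, 5]

end H19.Th.DP
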