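import Mathlib
import Cfsg.Agent.H19.Th.DP.B
import Cfsg.Agent.H19.Th.DP.I0

set_option autoImplicit false
set_option maxRecDepth 100000
set_option Elab.async false
set_option linter.all false

namespace H19.Th.DP
open H29

theorem hiv : IvOK (sg nets) (ivOf ivl) :=
  ivOK_of_chk (k := 10) hn (by decide) (n := 7) (by decide) (by decide) (lt_step (lt_step (lt_step (lt_step (lt_step (lt_step (lt_step (lt_step (lt_step (lt_step lt_base iv0) iv1) iv2) iv3) iv4) iv5) iv6) iv7) iv8) iv9)
theorem hG0 : ∀ r ∈ G0, ev (sg nets) r = 1 :=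
  rels_of_chk (k := 10) hn (by decide) hiv (lt_step (lt_step (lt_step (lt_step (lt_step (lt_step (lt_step (lt_step (lt_step (lt_step lt_base r0_0) r0_1) r0_2) r0_3) r0_4) r0_5) r0_6) r0_7) r0_8) r0_9)
theorem hR : ∀ r ∈ ThT1.R0, ev (sg nets) r = 1 := rels_sub (R := G0) hG0 (by decide +kernel)

end H19.Th.DP
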