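import Mathlib
import Cfsg.Agent.H19.Th.Rho
import Cfsg.Agent.H19.Th.E8.X0
import Cfsg.Agent.H19.Th.E8.X1
import Cfsg.Agent.H19.Th.E8.X2
import Cfsg.Agent.H19.Th.E8.X3
import Cfsg.Agent.H19.Th.E8.X4
import Cfsg.Agent.H19.Th.E8.X5
import Cfsg.Agent.H19.Th.E8.X7
import Cfsg.Agent.H19.Th.E8.X9

/-!
# The Thompson group maps into `E₈(3)`
-/

set_option autoImplicit false
set_option maxRecDepth 100000

namespace H19.Th.E8
open H29

/-- The change of basis. -/
noncomputable def pg : GL (Fin 248) (ZMod 3) := R248.M.gl p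

theorem hp : R248.C.Rep pg p :=
  (R248.M.letters (l := [p, pi]) (ivl := [1, 0]) (ivOf_ivOf (by decide +kernel)) (by decide)
    (lt_step (lt_step lt_base pinv) pinv')).1 0

/-- The representation in the Chevalley basis. -/
noncomputable def ψ : P.G →* GL Cfsg.Lie.chevE8.Idx (ZMod 3) :=
  ((T3.regl e8).toMonoidHom.comp (MulAut.conj pg).toMonoidHom).comp ρ

theorem ψ_e (c : ℕ) : ψ (P.e c) = T3.regl e8 (pg * R248.σ c * pg⁻¹) := by
  rw [← hρ]; rfl

theorem ψ_mem (g : P.G) : ψ g ∈ Cfsg.Lie.chevE8.group (ZMod 3) := by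
  have h1 : gen P.e [0, 1, 2, 3, 4, 5, 7, 9] ≤ (Cfsg.Lie.chevE8.group (ZMod 3)).comap ψ :=
    gen_le.2 fun c hc => by
      rw [Subgroup.mem_comap, ψ_e]
      simp only [List.mem_cons, List.not_mem_nil, or_false] at hc
      rcases hc with rfl | rfl | rfl | rfl | rfl | rfl | rfl | rfl
      · exact T3.OK.XRel.mem hp (R248.hl.1 0) r0
      · exact T3.OK.XRel.mem hp (R248.hl.1 1) r1
      · exact T3.OK.XRel.mem hp (R248.hl.1 2) r2
      · exact T3.OK.XRel.mem hp (R248.hl.1 3) r3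
      · exact T3.OK.XRel.mem hp (R248.hl.1 4) r4
      · exact T3.OK.XRel.mem hp (R248.hl.1 5) r5
      · exact T3.OK.XRel.mem hp (R248.hl.1 7) r7
      · exact T3.OK.XRel.mem hp (R248.hl.1 9) r9
  have h2 : gen P.e (List.range 11) = ⊤ := PData.gen_top coh hg (by decide +kernel)
  have h3 : gen P.e (List.range 11) ≤ gen P.e [0, 1, 2, 3, 4, 5, 7, 9] :=
    gen_sub_iv hiv0 (by decide +kernel)
  exact h1 (h3 (h2 ▸ Subgroup.mem_top g))

/-- The map to `E₈(3)`. -/
noncomputable def f : P.G →* Cfsg.Lie.chevE8.group (ZMod 3) := ψ.codRestrict _ ψ_mem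

theorem f_eq_one {g : P.G} (h : f g = 1) : ρ g = 1 := by
  have h0 : ψ g = 1 := by
    rw [← MonoidHom.mem_ker, ← MonoidHom.ker_codRestrict ψ _ ψ_mem]; exact h
  have h1 : Function.Injective ((T3.regl e8).toMonoidHom.comp (MulAut.conj pg).toMonoidHom) :=
    (T3.regl e8).injective.comp (MulAut.conj pg).injective
  exact (injective_iff_map_eq_one _).1 h1 _ h0

theorem f_ne : f (P.e 0) ≠ 1 := fun h => W.ne0 (by
  rw [← ρ_ev]; simpa using f_eq_one h)

end H19.Th.E8
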